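import Mathlib

/-!
# Modules as filtered colimits of finitely presented modules
-/

set_option autoImplicit false
set_option linter.style.haveILetI false
set_option maxHeartbeats 1000000

universe u

open CategoryTheory Limits

namespace Groth.Agent.H17.FPMod

variable (A : Type u) [CommRing A]

/-- The property of being finitely presented. -/
abbrev fp : ObjectProperty (ModuleCat.{u} A) := fun M => Module.FinitePresentation A M

/-- The category of finitely presented modules. -/
abbrev FP := (fp A).FullSubcategory

instance (M : FP A) : Module.FinitePresentation A M.obj := M.property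

/-- A finitely presented module as an object of `FP A`. -/
abbrev mkFP (M : Type u) [AddCommGroup M] [Module A M] [Module.FinitePresentation A M] : FP A :=
  ⟨ModuleCat.of A M, inferInstance⟩

variable {A}

theorem fp_quotient_range {M N : Type u} [AddCommGroup M] [Module A M] [AddCommGroup N] [Module A N]
    [Module.Finite A M] [Module.FinitePresentation A N] (f : M →ₗ[A] N) :
    Module.FinitePresentation A (N ⧸ f.range) := by
  refine Module.finitePresentation_of_surjective f.range.mkQ (Submodule.mkQ_surjective _) ?_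
  rw [Submodule.ker_mkQ, LinearMap.range_eq_map]
  exact (Module.Finite.fg_top).map f

variable (A)

instance : ObjectProperty.EssentiallySmall.{u} (fp A) where
  exists_small_le' := by
    refine ⟨ObjectProperty.ofObj (fun σ : Σ n : ℕ, Submodule A (Fin n → A) =>
      ModuleCat.of A ((Fin σ.1 → A) ⧸ σ.2)), inferInstance, fun M hM => ?_⟩
    haveI : Module.FinitePresentation A M := hM
    obtain ⟨n, K, e, -⟩ := Module.FinitePresentation.exists_fin A M
    exact ⟨_, ObjectProperty.ofObj_apply _ ⟨n, K⟩, ⟨e.toModuleIso⟩⟩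

/-- Finitely presented modules over `M`. -/
abbrev Over (M : ModuleCat.{u} A) := CostructuredArrow (fp A).ι M

instance (M : ModuleCat.{u} A) : IsFiltered (Over A M) where
  nonempty := ⟨CostructuredArrow.mk (Y := mkFP A PUnit) (ModuleCat.ofHom 0)⟩
  cocone_objs a b := by
    let c : Over A M := CostructuredArrow.mk (Y := mkFP A (a.left.obj × b.left.obj))
      (ModuleCat.ofHom (LinearMap.coprod a.hom.hom b.hom.hom))
    refine ⟨c, CostructuredArrow.homMk (ObjectProperty.homMk (ModuleCat.ofHom (LinearMap.inl A _ _))) ?_,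
      CostructuredArrow.homMk (ObjectProperty.homMk (ModuleCat.ofHom (LinearMap.inr A _ _))) ?_, trivial⟩
    · ext x; simp [c]
    · ext x; simp [c]
  cocone_maps a b s t := by
    let d := s.left.hom.hom - t.left.hom.hom
    haveI := fp_quotient_range d
    have hd : d.range ≤ b.hom.hom.ker := by
      rintro _ ⟨x, rfl⟩
      have h1 := ConcreteCategory.congr_hom (CostructuredArrow.w s) x
      have h2 := ConcreteCategory.congr_hom (CostructuredArrow.w t) x
      simp only [LinearMap.mem_ker, d, LinearMap.sub_apply, map_sub, sub_eq_zero]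
      exact h1.trans h2.symm
    refine ⟨CostructuredArrow.mk (Y := mkFP A (b.left.obj ⧸ d.range)) (ModuleCat.ofHom (d.range.liftQ b.hom.hom hd)),
      CostructuredArrow.homMk (ObjectProperty.homMk (ModuleCat.ofHom d.range.mkQ)) ?_, ?_⟩
    · ext x; rfl
    · ext x
      exact (Submodule.Quotient.eq _).2 ⟨x, rfl⟩

instance (M : ModuleCat.{u} A) : EssentiallySmall.{u} (Over A M) := inferInstance

/-- The canonical cocone exhibiting `M` as the colimit of the finitely presented modules over it. -/
@[simps]
def canon (M : ModuleCat.{u} A) : Cocone (CostructuredArrow.proj (fp A).ι M ⋙ (fp A).ι) where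
  pt := M
  ι :=
    { app a := a.hom
      naturality a b g := by
        show _ = a.hom ≫ 𝟙 _
        rw [Category.comp_id]
        exact CostructuredArrow.w g }

variable {A}

/-- The object of `Over A M` given by an element. -/
abbrev elt {M : ModuleCat.{u} A} (m : M) : Over A M :=
  CostructuredArrow.mk (Y := mkFP A A) (ModuleCat.ofHom (LinearMap.toSpanSingleton A M m))

theorem app_eq_app_elt {M : ModuleCat.{u} A} (s : Cocone (CostructuredArrow.proj (fp A).ι M ⋙ (fp A).ι))
    (a : Over A M) (n : a.left.obj) : (s.ι.app a).hom n = (s.ι.app (elt (a.hom n))).hom (1 : A) := by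
  let g : elt (a.hom n) ⟶ a := CostructuredArrow.homMk
    (ObjectProperty.homMk (ModuleCat.ofHom (LinearMap.toSpanSingleton A a.left.obj n))) (by
      apply ModuleCat.hom_ext
      refine LinearMap.ext_ring ?_
      show a.hom.hom ((1 : A) • n) = (1 : A) • a.hom.hom n
      rw [one_smul, one_smul])
  refine Eq.trans ?_ (ConcreteCategory.congr_hom (s.w g) (1 : A))
  exact congrArg (s.ι.app a).hom (one_smul A n).symm

theorem app_eq {M : ModuleCat.{u} A} (s : Cocone (CostructuredArrow.proj (fp A).ι M ⋙ (fp A).ι))
    (a : Over A M) (n : a.left.obj) (x : M) (hx : a.hom n = x) :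
    (s.ι.app a).hom n = (s.ι.app (elt x)).hom (1 : A) := by
  subst hx
  exact app_eq_app_elt s a n

/-- Every module is the colimit of the finitely presented modules over it. -/
noncomputable def isColimitCanon (M : ModuleCat.{u} A) : IsColimit (canon A M) where
  desc s := ModuleCat.ofHom
    { toFun := fun m => (s.ι.app (elt m)).hom (1 : A)
      map_add' := fun m m' => by
        let c : Over A M := CostructuredArrow.mk (Y := mkFP A (A × A))
          (ModuleCat.ofHom (LinearMap.coprod (LinearMap.toSpanSingleton A M m) (LinearMap.toSpanSingleton A M m')))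
        exact (app_eq s c ((1, 0) + (0, 1)) (m + m') (show ((1 : A) + 0) • m + ((0 : A) + 1) • m' = m + m' by simp)).symm.trans (((s.ι.app c).hom.map_add _ _).trans
          (congrArg₂ (· + ·) (app_eq s c (1, 0) m (by simp [c])) (app_eq s c (0, 1) m' (by simp [c]))))
      map_smul' := fun r m =>
        (app_eq s (elt m) (r • (1 : A)) (r • m) (by simp)).symm.trans ((s.ι.app (elt m)).hom.map_smul r (1 : A)) }
  fac s a := by
    apply ModuleCat.hom_ext
    ext n
    exact (app_eq_app_elt s a n).symm
  uniq s m h := by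
    apply ModuleCat.hom_ext
    ext x
    refine Eq.trans ?_ (ConcreteCategory.congr_hom (h (elt x)) (1 : A))
    exact congrArg m.hom (one_smul A x).symm

section Factor

variable {J : Type u} [SmallCategory J] [IsFiltered J] {D : J ⥤ ModuleCat.{u} A} {c : Cocone D}

theorem exists_rep (hc : IsColimit c) (x : c.pt) : ∃ j, ∃ y : D.obj j, c.ι.app j y = x :=
  Concrete.isColimit_exists_rep D hc x

theorem exists_rep_finset (hc : IsColimit c) {ι : Type*} (s : Finset ι) (x : ι → c.pt) :
    ∃ j, ∀ i ∈ s, ∃ y : D.obj j, c.ι.app j y = x i := by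
  classical
  induction s using Finset.induction with
  | empty => exact ⟨IsFiltered.nonempty.some, by simp⟩
  | @insert a s ha ih =>
    obtain ⟨j, hj⟩ := ih
    obtain ⟨k, y, hy⟩ := exists_rep hc (x a)
    refine ⟨IsFiltered.max j k, fun i hi => ?_⟩
    rcases Finset.mem_insert.1 hi with rfl | hi
    · exact ⟨D.map (IsFiltered.rightToMax j k) y, (ConcreteCategory.congr_hom (c.w _) y).trans hy⟩
    · obtain ⟨z, hz⟩ := hj i hi
      exact ⟨D.map (IsFiltered.leftToMax j k) z, (ConcreteCategory.congr_hom (c.w _) z).trans hz⟩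

theorem eventually_zero (hc : IsColimit c) {j : J} (y : D.obj j) (h : c.ι.app j y = 0) :
    ∃ k, ∃ g : j ⟶ k, D.map g y = 0 := by
  obtain ⟨k, f, g, e⟩ := (Concrete.isColimit_rep_eq_iff_exists D hc y (0 : D.obj j)).1 (h.trans (map_zero _).symm)
  exact ⟨k, f, e.trans (map_zero _)⟩

theorem eventually_zero_finset (hc : IsColimit c) {ι : Type*} (s : Finset ι) {j : J} (y : ι → D.obj j)
    (h : ∀ i ∈ s, c.ι.app j (y i) = 0) : ∃ k, ∃ g : j ⟶ k, ∀ i ∈ s, D.map g (y i) = 0 := by
  classical
  induction s using Finset.induction with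
  | empty => exact ⟨j, 𝟙 j, by simp⟩
  | @insert a s ha ih =>
    obtain ⟨k, g, hg⟩ := ih fun i hi => h i (Finset.mem_insert_of_mem hi)
    obtain ⟨l, g', hl⟩ := eventually_zero hc (D.map g (y a))
      ((ConcreteCategory.congr_hom (c.w g) (y a)).trans (h a (Finset.mem_insert_self a s)))
    refine ⟨l, g ≫ g', fun i hi => ?_⟩
    rw [D.map_comp, ConcreteCategory.comp_apply]
    rcases Finset.mem_insert.1 hi with rfl | hi
    · exact hl
    · rw [hg i hi, map_zero]

theorem exists_factor (hc : IsColimit c) {N : ModuleCat.{u} A} [Module.FinitePresentation A N] (f : N ⟶ c.pt) :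
    ∃ j, ∃ p : N ⟶ D.obj j, p ≫ c.ι.app j = f := by
  classical
  obtain ⟨n, m, π, r, hπ, hex⟩ := Module.FinitePresentation.exists_fin' A N
  obtain ⟨t, ht⟩ : (LinearMap.ker π).FG := by
    rw [hex.linearMap_ker_eq, LinearMap.range_eq_map]
    exact Module.Finite.fg_top.map r
  obtain ⟨j, hj⟩ := exists_rep_finset hc Finset.univ fun i => f (π (Pi.single i 1))
  choose y hy using fun i => hj i (Finset.mem_univ i)
  let q : (Fin n → A) →ₗ[A] D.obj j := Fintype.linearCombination A y
  have hq : (c.ι.app j).hom ∘ₗ q = f.hom ∘ₗ π := by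
    refine (Pi.basisFun A (Fin n)).ext fun i => ?_
    simpa [q, Fintype.linearCombination_apply_single] using hy i
  obtain ⟨k, g, hg⟩ := eventually_zero_finset hc t q fun x hx => by
    have hx' : x ∈ LinearMap.ker π := ht ▸ Submodule.subset_span hx
    have := LinearMap.congr_fun hq x
    simp only [LinearMap.coe_comp, Function.comp_apply, LinearMap.mem_ker.1 hx', map_zero] at this
    exact this
  have hle : LinearMap.ker π ≤ LinearMap.ker ((D.map g).hom ∘ₗ q) := by
    rw [← ht, Submodule.span_le]
    exact fun x hx => hg x hx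
  refine ⟨k, ModuleCat.ofHom (((LinearMap.ker π).liftQ _ hle) ∘ₗ
    (π.quotKerEquivOfSurjective hπ).symm.toLinearMap), ?_⟩
  apply ModuleCat.hom_ext
  ext m
  obtain ⟨x, rfl⟩ := hπ m
  have e : (π.quotKerEquivOfSurjective hπ).symm (π x) = Submodule.Quotient.mk x :=
    (LinearEquiv.symm_apply_eq _).2 rfl
  simp only [ModuleCat.hom_comp, ModuleCat.hom_ofHom, LinearMap.coe_comp, Function.comp_apply,
    LinearEquiv.coe_coe, e, Submodule.liftQ_apply]
  exact (ConcreteCategory.congr_hom (c.w g) (q x)).trans (LinearMap.congr_fun hq x)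

theorem exists_eq (hc : IsColimit c) {N : ModuleCat.{u} A} [Module.FinitePresentation A N] {i j : J}
    (p : N ⟶ D.obj i) (q : N ⟶ D.obj j) (h : p ≫ c.ι.app i = q ≫ c.ι.app j) :
    ∃ k, ∃ (a : i ⟶ k) (b : j ⟶ k), p ≫ D.map a = q ≫ D.map b := by
  classical
  obtain ⟨t, ht⟩ := (Module.Finite.fg_top : (⊤ : Submodule A N).FG)
  let k₀ := IsFiltered.max i j
  let d := p ≫ D.map (IsFiltered.leftToMax i j) - q ≫ D.map (IsFiltered.rightToMax i j)
  have hd : d ≫ c.ι.app k₀ = 0 := by
    simp only [d, k₀, Preadditive.sub_comp, Category.assoc, c.w, h, sub_self]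
  obtain ⟨k, g, hg⟩ := eventually_zero_finset hc t d fun x _ => ConcreteCategory.congr_hom hd x
  refine ⟨k, IsFiltered.leftToMax i j ≫ g, IsFiltered.rightToMax i j ≫ g, ?_⟩
  rw [← sub_eq_zero]
  have : d ≫ D.map g = 0 := by
    apply ModuleCat.hom_ext
    exact LinearMap.ext_on ht fun x hx => hg x hx
  simpa [d, Preadditive.sub_comp] using this

end Factor

end Groth.Agent.H17.FPMod
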