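import Mathlib

/-!
# Finitely generated submodules over a coherent ring
-/

set_option autoImplicit false
set_option linter.style.haveILetI false
set_option maxHeartbeats 1000000

universe u

namespace Groth.Agent.H17.FPMod

variable {A : Type u} [CommRing A]

theorem fp_of_linearEquiv {M N : Type u} [AddCommGroup M] [AddCommGroup N] [Module A M] [Module A N]
    (e : M ≃ₗ[A] N) [Module.FinitePresentation A M] : Module.FinitePresentation A N :=
  Module.FinitePresentation.of_equiv e

variable (hcoh : ∀ I : Ideal A, I.FG → Module.FinitePresentation A I)

include hcoh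

theorem fp_submodule_free : ∀ (n : ℕ) (S : Submodule A (Fin n → A)), S.FG → Module.FinitePresentation A S
  | 0, S, _ => Module.finitePresentation_of_projective _ _
  | n + 1, S, hS => by
    haveI : Module.Finite A S := Module.Finite.iff_fg.2 hS
    let p : S →ₗ[A] A := (LinearMap.proj (0 : Fin (n + 1))).comp S.subtype
    haveI : Module.FinitePresentation A (LinearMap.range p) := hcoh _ (Module.Finite.iff_fg.1 inferInstance)
    have hk : (LinearMap.ker p.rangeRestrict).FG :=
      Module.FinitePresentation.fg_ker _ p.surjective_rangeRestrict
    haveI : Module.Finite A (LinearMap.ker p.rangeRestrict) := Module.Finite.iff_fg.2 hk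
    let t : LinearMap.ker p.rangeRestrict →ₗ[A] (Fin n → A) :=
      (LinearMap.funLeft A A Fin.succ).comp (S.subtype.comp (Submodule.subtype _))
    have ht : Function.Injective t := by
      intro x y h
      ext i
      refine Fin.cases ?_ (fun j => ?_) i
      · have hx : p x.1 = 0 := congrArg Subtype.val (LinearMap.mem_ker.1 x.2)
        have hy : p y.1 = 0 := congrArg Subtype.val (LinearMap.mem_ker.1 y.2)
        exact hx.trans hy.symm
      · exact congrFun h j
    haveI : Module.FinitePresentation A (LinearMap.range t) :=
      fp_submodule_free n _ (Module.Finite.iff_fg.1 inferInstance)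
    let e : LinearMap.range t ≃ₗ[A] LinearMap.ker p.rangeRestrict := (LinearEquiv.ofInjective t ht).symm
    haveI : Module.FinitePresentation A (LinearMap.ker p.rangeRestrict) := by
      exact fp_of_linearEquiv (A := A) (M := LinearMap.range t) (N := LinearMap.ker p.rangeRestrict) e
    exact Module.finitePresentation_of_ker p.rangeRestrict p.surjective_rangeRestrict

theorem fp_submodule {N : Type u} [AddCommGroup N] [Module A N] [Module.FinitePresentation A N]
    (S : Submodule A N) (hS : S.FG) : Module.FinitePresentation A S := by
  obtain ⟨n, m, π, r, hπ, hex⟩ := Module.FinitePresentation.exists_fin' A N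
  have hker : (LinearMap.ker π).FG := by
    rw [hex.linearMap_ker_eq, LinearMap.range_eq_map]
    exact Module.Finite.fg_top.map r
  have hS' : (S.comap π).FG := by
    refine Submodule.fg_of_fg_map_of_fg_inf_ker π ?_ ?_
    · rwa [Submodule.map_comap_eq_of_surjective hπ]
    · rwa [inf_eq_right.2]
      intro x hx
      simp [LinearMap.mem_ker.1 hx]
  haveI := fp_submodule_free hcoh n _ hS'
  let q : S.comap π →ₗ[A] S := π.restrict fun _ h => h
  have hq : Function.Surjective q := by
    rintro ⟨y, hy⟩
    obtain ⟨x, rfl⟩ := hπ y
    exact ⟨⟨x, hy⟩, rfl⟩
  refine Module.finitePresentation_of_surjective q hq ?_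
  have e : LinearMap.ker q = (LinearMap.ker π).comap (S.comap π).subtype := by
    ext x
    simp [q, Subtype.ext_iff]
  refine Submodule.fg_of_fg_map_injective (S.comap π).subtype (Submodule.injective_subtype _) ?_
  rw [e, Submodule.map_comap_subtype, inf_eq_right.2]
  · exact hker
  · intro x hx
    simp [LinearMap.mem_ker.1 hx]

theorem fp_ker {K L : Type u} [AddCommGroup K] [Module A K] [Module.FinitePresentation A K] [AddCommGroup L]
    [Module A L] [Module.FinitePresentation A L] (f : K →ₗ[A] L) :
    Module.FinitePresentation A (LinearMap.ker f) := by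
  haveI := fp_submodule hcoh (LinearMap.range f) (Module.Finite.iff_fg.1 inferInstance)
  have h := Module.FinitePresentation.fg_ker f.rangeRestrict f.surjective_rangeRestrict
  rw [LinearMap.ker_rangeRestrict] at h
  exact fp_submodule hcoh _ h

end Groth.Agent.H17.FPMod
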