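import Groth.Agent.H17.FPMod.RightExact
import Mathlib

/-!
# Right exact functors on finitely presented modules and their value at the ring
-/

set_option autoImplicit false
set_option linter.style.haveILetI false
set_option maxHeartbeats 1000000

universe u v' u'

open CategoryTheory Limits

namespace Groth.Agent.H17.FPMod

variable {A : Type u} [CommRing A] {B : Type u'} [Category.{v'} B] [Preadditive B]

/-- Maps `M → Hom(K, T)` linear for the action `κ` of `A` on `K`. -/
@[ext]
structure ActHom {K : B} (κ : A →+* End K) (M : Type u) [AddCommGroup M] [Module A M] (T : B) where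
  /-- The underlying map. -/
  toFun : M →+ (K ⟶ T)
  map_smul : ∀ (a : A) (x : M), toFun (a • x) = κ a ≫ toFun x

variable {K : B} {κ : A →+* End K}

/-- Composition of an `ActHom` with a linear map and a morphism. -/
def ActHom.push {M N : Type u} [AddCommGroup M] [Module A M] [AddCommGroup N] [Module A N] {T T' : B}
    (h : ActHom κ N T) (f : M →ₗ[A] N) (g : T ⟶ T') : ActHom κ M T' where
  toFun := AddMonoidHom.mk' (fun x => h.toFun (f x) ≫ g) fun x y => by
    rw [map_add, map_add, Preadditive.add_comp]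
  map_smul a x := by
    show h.toFun (f (a • x)) ≫ g = κ a ≫ h.toFun (f x) ≫ g
    rw [f.map_smul, h.map_smul, Category.assoc]

/-- `h` is universal. -/
def ActHom.IsUniversal {M : Type u} [AddCommGroup M] [Module A M] {X : B} (h : ActHom κ M X) : Prop :=
  ∀ (T : B) (k : ActHom κ M T), ∃! g : X ⟶ T, ∀ x, h.toFun x ≫ g = k.toFun x

theorem ActHom.IsUniversal.hom_ext {M : Type u} [AddCommGroup M] [Module A M] {X : B} {h : ActHom κ M X}
    (hh : h.IsUniversal) {T : B} {g g' : X ⟶ T} (e : ∀ x, h.toFun x ≫ g = h.toFun x ≫ g') : g = g' :=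
  (hh T (h.push LinearMap.id g)).unique (fun _ => rfl) fun x => (e x).symm

variable [HasFiniteBiproducts B]

theorem exists_universal_free (κ : A →+* End K) (n : ℕ) :
    ∃ (X : B) (h : ActHom κ (Fin n → A) X), h.IsUniversal := by
  classical
  let h : ActHom κ (Fin n → A) (⨁ fun _ : Fin n => K) :=
    { toFun := AddMonoidHom.mk' (fun x => ∑ i, κ (x i) ≫ biproduct.ι (fun _ : Fin n => K) i) fun x y => by
        rw [← Finset.sum_add_distrib]
        exact Finset.sum_congr rfl fun i _ => by rw [Pi.add_apply, map_add, Preadditive.add_comp]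
      map_smul := fun a x => by
        show ∑ i, κ (a * x i) ≫ _ = κ a ≫ ∑ i, κ (x i) ≫ _
        rw [Preadditive.comp_sum]
        exact Finset.sum_congr rfl fun i _ => by
          rw [mul_comm a, map_mul, End.mul_def, Category.assoc] }
  have hsingle : ∀ i, h.toFun (Pi.single i 1) = biproduct.ι (fun _ : Fin n => K) i := fun i => by
    show ∑ j, κ ((Pi.single i (1 : A) : Fin n → A) j) ≫ _ = _
    rw [Finset.sum_eq_single i (fun j _ hj => by simp [Pi.single_eq_of_ne hj]) (by simp),
      Pi.single_eq_same, map_one, End.one_def, Category.id_comp]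
  refine ⟨_, h, fun T k => ⟨biproduct.desc fun i => k.toFun (Pi.single i 1), fun x => ?_, fun g hg => ?_⟩⟩
  · show (∑ i, κ (x i) ≫ _) ≫ _ = _
    conv_rhs => rw [← (Pi.basisFun A (Fin n)).sum_repr x]
    simp [Preadditive.sum_comp, k.map_smul]
  · refine biproduct.hom_ext' _ _ fun i => ?_
    rw [biproduct.ι_desc, ← hg, hsingle]

theorem exists_universal [HasCokernels B] (κ : A →+* End K) (M : FP A) :
    ∃ (X : B) (h : ActHom κ M.obj X), h.IsUniversal := by
  obtain ⟨n, m, π, r, hπ, hex, -⟩ := exists_presentation M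
  obtain ⟨P, p, hp⟩ := exists_universal_free κ n
  obtain ⟨R, q, hq⟩ := exists_universal_free κ m
  obtain ⟨d, hd, -⟩ := hq P (p.push r.hom.hom (𝟙 _))
  have hker : ∀ x x' : Fin n → A, π.hom x = π.hom x' → p.toFun x ≫ cokernel.π d = p.toFun x' ≫ cokernel.π d := by
    intro x x' e
    obtain ⟨y, hy⟩ := (hex (x - x')).1 (by rw [map_sub, e, sub_self])
    rw [← sub_eq_zero, ← Preadditive.sub_comp, ← map_sub, ← hy]
    have := hd y
    rw [show p.toFun (r.hom y) = q.toFun y ≫ d from (Category.comp_id _).symm.trans this.symm,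
      Category.assoc, cokernel.condition, comp_zero]
  choose s hs using hπ
  let h : ActHom κ M.obj (cokernel d) :=
    { toFun := AddMonoidHom.mk' (fun x => p.toFun (s x) ≫ cokernel.π d) fun x y => by
        rw [← Preadditive.add_comp, ← map_add]
        exact hker _ _ (by rw [map_add, hs, hs, hs])
      map_smul := fun a x => by
        show p.toFun (s (a • x)) ≫ _ = κ a ≫ p.toFun (s x) ≫ _
        rw [← Category.assoc, ← p.map_smul]
        exact hker _ _ (by rw [_root_.map_smul, hs, hs]) }
  refine ⟨_, h, fun T k => ?_⟩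
  obtain ⟨g, hg, -⟩ := hp T (k.push π.hom.hom (𝟙 _))
  have hg' : ∀ x, p.toFun x ≫ g = k.toFun (π.hom x) := fun x => (hg x).trans (Category.comp_id _)
  have h0 : d ≫ g = 0 := hq.hom_ext fun y => by
    rw [reassoc_of% hd, comp_zero]
    refine Eq.trans ?_ ((congrArg k.toFun ((hex _).2 ⟨y, rfl⟩)).trans k.toFun.map_zero)
    exact ((congrArg (· ≫ g) (Category.comp_id _)).trans (hg' (r.hom y)))
  refine ⟨cokernel.desc d g h0, fun x => ?_, fun g' hg'' => ?_⟩
  · show (p.toFun (s x) ≫ _) ≫ _ = _
    rw [Category.assoc, cokernel.π_desc, hg', hs]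
  · apply (cancel_epi (cokernel.π d)).1
    rw [cokernel.π_desc]
    refine hp.hom_ext fun x => ?_
    rw [hg' x, ← hg'', ← Category.assoc]
    exact congrArg (· ≫ g') (hker _ _ (hs _).symm)

theorem exists_functor [HasCokernels B] (κ : A →+* End K) :
    ∃ (F : FP A ⥤ B) (_ : PreservesFiniteColimits F) (e : F.obj (mkFP A A) ≅ K),
      ∀ a : A, F.map (fhom (LinearMap.lsmul A A a) : mkFP A A ⟶ mkFP A A) ≫ e.hom = e.hom ≫ κ a := by
  choose X u hu using exists_universal κ
  choose m hm hm' using fun (M N : FP A) (f : M ⟶ N) => hu M (X N) ((u N).push f.hom.hom (𝟙 _))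
  replace hm : ∀ {M N : FP A} (f : M ⟶ N) (x : M.obj), (u M).toFun x ≫ m M N f = (u N).toFun (f.hom x) :=
    fun f x => (hm _ _ f x).trans (Category.comp_id _)
  let F : FP A ⥤ B :=
    { obj := X
      map := fun {M N} f => m M N f
      map_id := fun M => (hu M).hom_ext fun x => by rw [hm, Category.comp_id]; rfl
      map_comp := fun {M N P} f g => (hu M).hom_ext fun x => by
        rw [hm, reassoc_of% (hm f x), hm]; rfl }
  haveI : F.Additive := ⟨fun {M N f g} => (hu M).hom_ext fun x => by
    show _ ≫ m _ _ _ = _ ≫ (m _ _ _ + m _ _ _)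
    rw [Preadditive.comp_add, hm, hm, hm, ← map_add]; rfl⟩
  haveI : HasCoequalizers (FP A) := Preadditive.hasCoequalizers_of_hasCokernels
  haveI : ∀ {M N : FP A} (f : M ⟶ N), PreservesColimit (parallelPair f 0) F := fun {M N} f => by
    haveI := fp_quotient_range f.hom.hom
    let g : N ⟶ mkFP A (N.obj ⧸ f.hom.hom.range) := fhom f.hom.hom.range.mkQ
    have w : f ≫ g = 0 := ObjectProperty.hom_ext _ (ModuleCat.hom_ext f.hom.hom.range_mkQ_comp)
    refine preservesColimit_of_preserves_colimit_cocone
      (isColimitCokernel f g (Submodule.mkQ_surjective _) (LinearMap.exact_map_mkQ_range _) w) ?_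
    refine (CokernelCofork.isColimitMapCoconeEquiv _ F).symm ?_
    haveI : Epi (F.map g) := ⟨fun {T} a b hab => (hu _).hom_ext fun x => by
      obtain ⟨y, rfl⟩ := Submodule.mkQ_surjective _ x
      have e : (u N).toFun y ≫ F.map g = (u _).toFun (Submodule.Quotient.mk y) := hm g y
      rw [Submodule.mkQ_apply, ← e, Category.assoc, Category.assoc, hab]⟩
    refine CokernelCofork.IsColimit.ofπ' (F.map g) (by rw [← F.map_comp, w, F.map_zero]) fun {T} h hh => ?_
    have hker : ∀ x x' : N.obj, g.hom x = g.hom x' → (u N).toFun x ≫ h = (u N).toFun x' ≫ h := by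
      intro x x' e
      obtain ⟨y, hy⟩ := (Submodule.Quotient.eq _).1 e
      rw [← sub_eq_zero, ← Preadditive.sub_comp, ← map_sub, ← hy]
      have e' : (u M).toFun y ≫ F.map f = (u N).toFun (f.hom y) := hm f y
      exact (congrArg (· ≫ h) e'.symm).trans (by rw [Category.assoc, hh, comp_zero])
    choose s hs using Submodule.mkQ_surjective f.hom.hom.range
    let k : ActHom κ (N.obj ⧸ f.hom.hom.range) T :=
      { toFun := AddMonoidHom.mk' (fun x => (u N).toFun (s x) ≫ h) fun x y => by
          rw [← Preadditive.add_comp, ← map_add]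
          exact hker _ _ (by
            show f.hom.hom.range.mkQ (s (x + y)) = f.hom.hom.range.mkQ (s x + s y)
            rw [map_add, hs, hs, hs])
        map_smul := fun a x => by
          show (u N).toFun (s (a • x)) ≫ h = κ a ≫ (u N).toFun (s x) ≫ h
          rw [← Category.assoc, ← (u N).map_smul]
          exact hker _ _ (by
            show f.hom.hom.range.mkQ (s (a • x)) = f.hom.hom.range.mkQ (a • s x)
            rw [_root_.map_smul, hs, hs]) }
    refine ⟨(hu (mkFP A (N.obj ⧸ f.hom.hom.range)) T k).choose, (hu N).hom_ext fun x => ?_⟩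
    rw [← Category.assoc]
    refine (congrArg (· ≫ _) (hm g x)).trans ?_
    refine ((hu (mkFP A (N.obj ⧸ f.hom.hom.range)) T k).choose_spec.1 _).trans ?_
    exact hker _ _ (hs _)
  haveI : HasZeroObject B := inferInstance
  let k : ActHom κ A K :=
    { toFun := κ.toAddMonoidHom
      map_smul := fun a x => by
        show κ (a * x) = κ a ≫ κ x
        rw [mul_comm, map_mul, End.mul_def] }
  let I := mkFP A A
  let e : F.obj I ≅ K :=
    { hom := (hu I K k).choose
      inv := (u I).toFun (1 : A)
      hom_inv_id := (hu I).hom_ext fun x => by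
        rw [← Category.assoc, (hu I K k).choose_spec.1, Category.comp_id]
        exact ((u I).map_smul x (1 : A)).symm.trans (congrArg (u I).toFun (mul_one (x : A)))
      inv_hom_id := ((hu I K k).choose_spec.1 (1 : A)).trans κ.map_one }
  refine ⟨F, F.preservesFiniteColimits_of_preservesCokernels, e, fun a => (hu I).hom_ext fun x => ?_⟩
  show (u I).toFun x ≫ m _ _ _ ≫ _ = (u I).toFun x ≫ (hu I K k).choose ≫ κ a
  rw [reassoc_of% (hm (fhom (LinearMap.lsmul A A a) : I ⟶ I) x), reassoc_of% ((hu I K k).choose_spec.1 x),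
    (hu I K k).choose_spec.1]
  show κ (a * x) = κ x ≫ κ a
  rw [map_mul, End.mul_def]

section Hom

variable (F F' : FP A ⥤ B) [PreservesFiniteColimits F] [PreservesFiniteColimits F']

/-- The morphism `A → M` given by an element. -/
abbrev hat {M : FP A} (x : M.obj) : mkFP A A ⟶ M := fhom (LinearMap.toSpanSingleton A M.obj x)

omit [HasFiniteBiproducts B] [Preadditive B] in
theorem hat_comp {M N : FP A} (x : M.obj) (f : M ⟶ N) : hat x ≫ f = hat (f.hom x) := by
  apply ObjectProperty.hom_ext
  apply ModuleCat.hom_ext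
  refine LinearMap.ext_ring ?_
  show f.hom ((1 : A) • x) = (1 : A) • f.hom x
  rw [one_smul, one_smul]

omit [PreservesFiniteColimits F'] in
theorem hom_ext_hat {M : FP A} {T : B} {g g' : F.obj M ⟶ T}
    (e : ∀ x : M.obj, F.map (hat x) ≫ g = F.map (hat x) ≫ g') : g = g' := by
  classical
  haveI := additive_of_rightExact F
  obtain ⟨n, m, π, r, hπ, -, -⟩ := exists_presentation M
  haveI := epi_map F π hπ
  have hid : (𝟙 (mkFP A (Fin n → A))) =
      ∑ i, (fhom (LinearMap.proj i) : mkFP A (Fin n → A) ⟶ mkFP A A) ≫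
        hat (M := mkFP A (Fin n → A)) (Pi.single i 1) := by
    apply ObjectProperty.hom_ext
    apply ModuleCat.hom_ext
    rw [show (∑ i, (fhom (LinearMap.proj i) : mkFP A (Fin n → A) ⟶ mkFP A A) ≫
      hat (M := mkFP A (Fin n → A)) (Pi.single i 1)).hom =
      ∑ i, ((fhom (LinearMap.proj i) : mkFP A (Fin n → A) ⟶ mkFP A A) ≫
        hat (M := mkFP A (Fin n → A)) (Pi.single i 1)).hom from map_sum (fp A).ι.mapAddHom _ _, ModuleCat.hom_sum]
    refine (Pi.basisFun A (Fin n)).ext fun j => ?_
    simp [Pi.single_apply]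
  rw [← cancel_epi (F.map π), ← Category.id_comp (F.map π), ← F.map_id, hid, F.map_sum,
    Preadditive.sum_comp, Preadditive.sum_comp, Preadditive.sum_comp]
  refine Finset.sum_congr rfl fun i _ => ?_
  simp only [F.map_comp, Category.assoc]
  congr 1
  rw [← F.map_comp_assoc, ← F.map_comp_assoc, hat_comp, e]

theorem exists_natTrans (φ : F.obj (mkFP A A) ⟶ F'.obj (mkFP A A))
    (hφ : ∀ a : A, F.map (fhom (LinearMap.lsmul A A a) : mkFP A A ⟶ mkFP A A) ≫ φ =
      φ ≫ F'.map (fhom (LinearMap.lsmul A A a) : mkFP A A ⟶ mkFP A A)) :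
    ∃ t : F ⟶ F', t.app (mkFP A A) = φ := by
  classical
  haveI := additive_of_rightExact F
  haveI := additive_of_rightExact F'
  have key : ∀ M : FP A, ∃ g : F.obj M ⟶ F'.obj M, ∀ x : M.obj, F.map (hat x) ≫ g = φ ≫ F'.map (hat x) := by
    intro M
    obtain ⟨n, m, π, r, hπ, hex, hrπ⟩ := exists_presentation M
    let P : Fin n → (mkFP A (Fin n → A) ⟶ mkFP A A) := fun i => fhom (LinearMap.proj i)
    let g₀ : F.obj (mkFP A (Fin n → A)) ⟶ F'.obj M :=
      ∑ i, F.map (P i) ≫ φ ≫ F'.map (hat (π.hom (Pi.single i 1)))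
    have hg₀ : ∀ x : Fin n → A, F.map (hat (M := mkFP A (Fin n → A)) x) ≫ g₀ = φ ≫ F'.map (hat (π.hom x)) := by
      intro x
      have h1 : ∀ i, hat (M := mkFP A (Fin n → A)) x ≫ P i = fhom (LinearMap.lsmul A A (x i)) := fun i => by
        apply ObjectProperty.hom_ext
        apply ModuleCat.hom_ext
        refine LinearMap.ext_ring ?_
        show ((1 : A) • x) i = x i * 1
        simp
      have h2 : hat (π.hom x) =
          ∑ i, (fhom (LinearMap.lsmul A A (x i)) : mkFP A A ⟶ mkFP A A) ≫ hat (π.hom (Pi.single i 1)) := by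
        apply ObjectProperty.hom_ext
        apply ModuleCat.hom_ext
        rw [show (∑ i, (fhom (LinearMap.lsmul A A (x i)) : mkFP A A ⟶ mkFP A A) ≫
          hat (π.hom (Pi.single i 1))).hom = ∑ i, ((fhom (LinearMap.lsmul A A (x i)) : mkFP A A ⟶ mkFP A A) ≫
            hat (π.hom (Pi.single i 1))).hom from map_sum (fp A).ι.mapAddHom _ _, ModuleCat.hom_sum]
        refine LinearMap.ext_ring ?_
        show (1 : A) • π.hom x = _
        conv_lhs => rw [← (Pi.basisFun A (Fin n)).sum_repr x]
        simp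
      rw [h2, F'.map_sum, Preadditive.comp_sum, Preadditive.comp_sum]
      refine Finset.sum_congr rfl fun i _ => ?_
      rw [F'.map_comp, ← F.map_comp_assoc, h1, reassoc_of% hφ]
    obtain ⟨w', ⟨hc⟩⟩ := isColimit_map F r π hπ hex hrπ
    have h0 : F.map r ≫ g₀ = 0 := hom_ext_hat F fun y => by
      rw [← F.map_comp_assoc, hat_comp, hg₀, comp_zero,
        show hat (π.hom (r.hom y)) = 0 by
          apply ObjectProperty.hom_ext
          apply ModuleCat.hom_ext
          refine LinearMap.ext_ring ?_
          show (1 : A) • π.hom (r.hom y) = 0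
          rw [(hex _).2 ⟨y, rfl⟩, smul_zero], F'.map_zero, comp_zero]
    refine ⟨hc.desc (CokernelCofork.ofπ g₀ h0), fun x => ?_⟩
    obtain ⟨y, rfl⟩ := hπ x
    rw [← hat_comp, F.map_comp, Category.assoc, hat_comp]
    exact (congrArg (F.map (hat y) ≫ ·) (hc.fac (CokernelCofork.ofπ g₀ h0) .one)).trans (hg₀ y)
  choose g hg using key
  refine ⟨{ app := g, naturality := fun M N f => hom_ext_hat F fun x => ?_ }, hom_ext_hat F fun x => ?_⟩
  · rw [← F.map_comp_assoc, hat_comp, hg, reassoc_of% (hg M x), ← F'.map_comp, hat_comp]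
  · exact (hg (mkFP A A) x).trans ((congrArg (φ ≫ F'.map ·) (by
      apply ObjectProperty.hom_ext
      apply ModuleCat.hom_ext
      refine LinearMap.ext_ring ?_
      show (1 : A) • (x : A) = x * 1
      simp : hat x = (fhom (LinearMap.lsmul A A (x : A)) : mkFP A A ⟶ mkFP A A))).trans
      ((hφ x).symm.trans (congrArg (F.map · ≫ φ) (by
      apply ObjectProperty.hom_ext
      apply ModuleCat.hom_ext
      refine LinearMap.ext_ring ?_
      show (x : A) * 1 = (1 : A) • (x : A)
      simp))))

end Hom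

end Groth.Agent.H17.FPMod
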