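import Mathlib

/-!
# Eilenberg–Watts
-/

set_option autoImplicit false
set_option linter.style.haveILetI false
set_option maxHeartbeats 1000000

universe u

open CategoryTheory Limits TensorProduct

namespace Groth.Agent.H17.EW

variable {A B : Type u} [CommRing A] [CommRing B] (F : ModuleCat.{u} A ⥤ ModuleCat.{u} B)

/-- The value at `A`. -/
abbrev Val : Type u := (F.obj (ModuleCat.of A A) : ModuleCat.{u} B)

variable [F.Additive]

noncomputable instance : Module A (Val F) where
  smul a x := (F.map (a • 𝟙 (ModuleCat.of A A))).hom x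
  one_smul x := by
    show (F.map ((1 : A) • 𝟙 (ModuleCat.of A A))).hom x = x
    rw [one_smul, F.map_id]; rfl
  mul_smul a b x := by
    show (F.map ((a * b) • 𝟙 (ModuleCat.of A A))).hom x =
      (F.map (a • 𝟙 (ModuleCat.of A A))).hom ((F.map (b • 𝟙 (ModuleCat.of A A))).hom x)
    rw [← LinearMap.comp_apply, ← ModuleCat.hom_comp, ← F.map_comp, Linear.smul_comp, Category.id_comp,
      smul_smul, mul_comm b a]
  smul_zero a := LinearMap.map_zero _
  smul_add a x y := LinearMap.map_add _ x y
  add_smul a b x := by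
    show (F.map ((a + b) • 𝟙 (ModuleCat.of A A))).hom x = _
    rw [add_smul, F.map_add, ModuleCat.hom_add, LinearMap.add_apply]
    rfl
  zero_smul x := by
    show (F.map ((0 : A) • 𝟙 (ModuleCat.of A A))).hom x = 0
    rw [zero_smul, F.map_zero, ModuleCat.hom_zero, LinearMap.zero_apply]

theorem val_smul (a : A) (x : Val F) : a • x = (F.map (a • 𝟙 (ModuleCat.of A A))).hom x := rfl

instance : SMulCommClass A B (Val F) where
  smul_comm a b x := LinearMap.map_smul _ b x

/-- The morphism `A → M` given by an element. -/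
abbrev hat {M : ModuleCat.{u} A} (m : M) : ModuleCat.of A A ⟶ M :=
  ModuleCat.ofHom (LinearMap.toSpanSingleton A M m)

theorem hat_add {M : ModuleCat.{u} A} (m m' : M) : hat (m + m') = hat m + hat m' :=
  ModuleCat.hom_ext (LinearMap.ext_ring (by simp))

theorem hat_smul {M : ModuleCat.{u} A} (a : A) (m : M) : hat (a • m) = (a • 𝟙 (ModuleCat.of A A)) ≫ hat m :=
  ModuleCat.hom_ext (LinearMap.ext_ring (by simp))

theorem hat_comp {M N : ModuleCat.{u} A} (m : M) (f : M ⟶ N) : hat m ≫ f = hat (f m) :=
  ModuleCat.hom_ext (LinearMap.ext_ring (by simp))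

/-- The comparison map. -/
noncomputable def eta (M : ModuleCat.{u} A) : Val F ⊗[A] M →ₗ[B] F.obj M :=
  let g : Val F ⊗[A] M →+ F.obj M := TensorProduct.liftAddHom
    (AddMonoidHom.mk' (fun x => AddMonoidHom.mk' (fun m => (F.map (hat m)).hom x) fun m m' => by
        rw [hat_add, F.map_add, ModuleCat.hom_add, LinearMap.add_apply])
      fun x y => AddMonoidHom.ext fun m => LinearMap.map_add _ x y)
    fun a x m => by
      show (F.map (hat m)).hom ((F.map (a • 𝟙 (ModuleCat.of A A))).hom x) = (F.map (hat (a • m))).hom x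
      rw [hat_smul, F.map_comp]; rfl
  { g with
    map_smul' := fun b z => by
      show g (b • z) = b • g z
      induction z using TensorProduct.induction_on with
      | zero => simp
      | tmul x m => exact LinearMap.map_smul _ b x
      | add z w hz hw => rw [smul_add, map_add, map_add, hz, hw, smul_add] }

theorem eta_tmul (M : ModuleCat.{u} A) (x : Val F) (m : M) : eta F M (x ⊗ₜ m) = (F.map (hat m)).hom x := rfl

theorem eta_natural {M N : ModuleCat.{u} A} (f : M ⟶ N) (z : Val F ⊗[A] M) :
    eta F N (LinearMap.lTensor (Val F) f.hom z) = F.map f (eta F M z) := by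
  induction z using TensorProduct.induction_on with
  | zero => simp
  | tmul x m =>
    rw [LinearMap.lTensor_tmul, eta_tmul, eta_tmul]
    show (F.map (hat (f m))).hom x = (F.map f).hom ((F.map (hat m)).hom x)
    rw [← hat_comp, F.map_comp]; rfl
  | add z w hz hw => rw [map_add, map_add, hz, hw, map_add, map_add]

theorem bijective_eta_free (ι : Type u) [PreservesColimitsOfShape (Discrete ι) F] :
    Function.Bijective (eta F (ModuleCat.of A (ι →₀ A))) := by
  classical
  let c : Cofan fun _ : ι => ModuleCat.of A A :=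
    Cofan.mk (ModuleCat.of A (ι →₀ A)) fun i => ModuleCat.ofHom (Finsupp.lsingle i)
  have hc : IsColimit c := Cofan.IsColimit.mk _
    (fun s => ModuleCat.ofHom (Finsupp.lsum A fun i => (s.inj i).hom))
    (fun s i => by
      apply ModuleCat.hom_ext
      refine LinearMap.ext_ring ?_
      simp [c])
    fun s m hm => by
      apply ModuleCat.hom_ext
      refine Finsupp.lhom_ext fun i a => ?_
      simpa [c] using LinearMap.congr_fun (congrArg ModuleCat.Hom.hom (hm i)) a
  have hF := isColimitOfPreserves F hc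
  let T := ModuleCat.of B (Val F ⊗[A] (ι →₀ A))
  let comp : ι → (F.obj (ModuleCat.of A A) ⟶ T) := fun i => ModuleCat.ofHom
    { toFun := fun x => (x : Val F) ⊗ₜ[A] (Finsupp.single i (1 : A) : ι →₀ A)
      map_add' := fun x y => TensorProduct.add_tmul (x : Val F) y _
      map_smul' := fun b x => (TensorProduct.smul_tmul' b (x : Val F) _).symm }
  let s : Cocone (Discrete.functor (fun _ : ι => ModuleCat.of A A) ⋙ F) :=
    ⟨T, Discrete.natTrans fun i => comp i.as⟩
  let ψ : F.obj (ModuleCat.of A (ι →₀ A)) ⟶ T := hF.desc s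
  have hψ : ∀ i, F.map (ModuleCat.ofHom (Finsupp.lsingle i)) ≫ ψ = comp i := fun i => hF.fac s ⟨i⟩
  have h1 : ∀ z, ψ.hom (eta F _ z) = z := by
    intro z
    induction z using TensorProduct.induction_on with
    | zero => exact (congrArg ψ.hom (map_zero _)).trans (map_zero _)
    | add z w hz hw => rw [map_add, map_add, hz, hw]
    | tmul x v =>
      induction v using Finsupp.induction_linear with
      | zero => rw [TensorProduct.tmul_zero, map_zero, map_zero]
      | add f g hf hg => rw [TensorProduct.tmul_add, map_add, map_add, hf, hg]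
      | single i a =>
        rw [eta_tmul, show hat (M := ModuleCat.of A (ι →₀ A)) (Finsupp.single i a) =
          (a • 𝟙 (ModuleCat.of A A)) ≫ ModuleCat.ofHom (Finsupp.lsingle i) from
            ModuleCat.hom_ext (LinearMap.ext_ring (by simp)), F.map_comp]
        refine (LinearMap.congr_fun (congrArg ModuleCat.Hom.hom (hψ i)) (a • x)).trans ?_
        show (a • x) ⊗ₜ[A] Finsupp.single i (1 : A) = _
        rw [TensorProduct.smul_tmul, Finsupp.smul_single, smul_eq_mul, mul_one]
  have h2 : ψ ≫ ModuleCat.ofHom (eta F (ModuleCat.of A (ι →₀ A))) = 𝟙 _ := hF.hom_ext fun ⟨i⟩ => by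
    show F.map (ModuleCat.ofHom (Finsupp.lsingle i)) ≫ ψ ≫ _ = F.map (ModuleCat.ofHom (Finsupp.lsingle i)) ≫ 𝟙 _
    rw [reassoc_of% (hψ i), Category.comp_id]
    apply ModuleCat.hom_ext
    refine LinearMap.ext fun x => ?_
    show eta F (ModuleCat.of A (ι →₀ A)) ((x : Val F) ⊗ₜ[A] (Finsupp.single i (1 : A) : ι →₀ A)) = _
    rw [eta_tmul]
    congr 2
    exact congrArg F.map (ModuleCat.hom_ext (LinearMap.ext_ring (by simp)))
  exact ⟨Function.LeftInverse.injective h1,
    fun y => ⟨ψ.hom y, LinearMap.congr_fun (congrArg ModuleCat.Hom.hom h2) y⟩⟩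

variable [PreservesFiniteColimits F]

theorem exact_map {M N Q : ModuleCat.{u} A} (f : M ⟶ N) (g : N ⟶ Q)
    (hg : Function.Surjective g) (hex : Function.Exact f g) :
    Function.Surjective (F.map g) ∧ ∀ x, F.map g x = 0 → ∃ y, F.map f y = x := by
  have w : f ≫ g = 0 := ModuleCat.hom_ext hex.linearMap_comp_eq_zero
  haveI : Epi g := (ModuleCat.epi_iff_surjective _).2 hg
  have hc : IsColimit (CokernelCofork.ofπ g w) := CokernelCofork.IsColimit.ofπ' g w fun {T} k hk =>
    have hle : LinearMap.ker g.hom ≤ LinearMap.ker k.hom := fun x hx => by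
      obtain ⟨y, rfl⟩ := (hex x).1 hx
      exact ConcreteCategory.congr_hom hk y
    ⟨ModuleCat.ofHom ((LinearMap.ker g.hom).liftQ k.hom hle ∘ₗ
      (g.hom.quotKerEquivOfSurjective hg).symm.toLinearMap), by
      apply ModuleCat.hom_ext
      refine LinearMap.ext fun x => ?_
      show (LinearMap.ker g.hom).liftQ k.hom hle ((g.hom.quotKerEquivOfSurjective hg).symm (g.hom x)) = k.hom x
      rw [show (g.hom.quotKerEquivOfSurjective hg).symm (g.hom x) = Submodule.Quotient.mk x from
        (LinearEquiv.symm_apply_eq _).2 rfl, Submodule.liftQ_apply]⟩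
  have hF := CokernelCofork.mapIsColimit _ hc F
  refine ⟨?_, fun x hx => ?_⟩
  · exact (ModuleCat.epi_iff_surjective (F.map g)).1 inferInstance
  · obtain ⟨d, hd⟩ := CokernelCofork.IsColimit.desc' hF (ModuleCat.ofHom (LinearMap.range (F.map f).hom).mkQ)
      (ModuleCat.hom_ext (LinearMap.range_mkQ_comp _))
    have h1 : d.hom (F.map g x) = (LinearMap.range (F.map f).hom).mkQ x := ConcreteCategory.congr_hom hd x
    exact LinearMap.mem_range.1 ((Submodule.Quotient.mk_eq_zero _).1 (h1.symm.trans ((congrArg d.hom hx).trans (map_zero d.hom))))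

theorem bijective_eta [∀ J : Type u, PreservesColimitsOfShape (Discrete J) F] (M : ModuleCat.{u} A) :
    Function.Bijective (eta F M) := by
  let g : ModuleCat.of A (M →₀ A) ⟶ M := ModuleCat.ofHom (Finsupp.linearCombination A (id : M → M))
  have hg : Function.Surjective g := Finsupp.linearCombination_id_surjective A M
  let f : ModuleCat.of A (LinearMap.ker g.hom →₀ A) ⟶ ModuleCat.of A (M →₀ A) :=
    ModuleCat.ofHom (Finsupp.linearCombination A (Subtype.val : LinearMap.ker g.hom → (M →₀ A)))
  have hex : Function.Exact f g := LinearMap.exact_iff.2 (by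
    show LinearMap.ker g.hom = LinearMap.range (Finsupp.linearCombination A _)
    rw [Finsupp.range_linearCombination, Subtype.range_coe, Submodule.span_eq])
  obtain ⟨hFg, hFex⟩ := exact_map F f g hg hex
  have hT := lTensor_exact (Val F) hex hg
  have hTg := LinearMap.lTensor_surjective (Val F) hg
  have hf := bijective_eta_free F (LinearMap.ker g.hom)
  have hm := bijective_eta_free F M
  refine ⟨(injective_iff_map_eq_zero (eta F M)).2 fun z hz => ?_, fun y => ?_⟩
  · obtain ⟨w, rfl⟩ := hTg z
    rw [eta_natural] at hz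
    obtain ⟨y, hy⟩ := hFex _ hz
    obtain ⟨v, rfl⟩ := hf.2 y
    rw [← eta_natural] at hy
    exact (hT w).2 ⟨v, hm.1 hy⟩
  · obtain ⟨x, rfl⟩ := hFg y
    obtain ⟨w, rfl⟩ := hm.2 x
    exact ⟨_, eta_natural F g w⟩

/-- The comparison isomorphism. -/
noncomputable def equiv [∀ J : Type u, PreservesColimitsOfShape (Discrete J) F] (M : ModuleCat.{u} A) :
    Val F ⊗[A] M ≃ₗ[B] F.obj M :=
  LinearEquiv.ofBijective (eta F M) (bijective_eta F M)

end Groth.Agent.H17.EW
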