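import Groth.Agent.H17.FPMod.Basic
import Mathlib

/-!
# Functors on modules determined by finitely presented modules
-/

set_option autoImplicit false
set_option linter.style.haveILetI false
set_option maxHeartbeats 1000000

universe u v' u'

open CategoryTheory Limits

namespace Groth.Agent.H17.FPMod

variable {A : Type u} [CommRing A] {B : Type u'} [Category.{v'} B]

/-- `G` is computed by finitely presented modules. -/
def IsExt (G : ModuleCat.{u} A ⥤ B) : Prop :=
  ∀ M, Nonempty (IsColimit (G.mapCocone (canon A M)))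

theorem hasColimitsOfShape_over [HasFilteredColimitsOfSize.{u, u} B] (M : ModuleCat.{u} A) :
    HasColimitsOfShape (Over A M) B :=
  haveI : IsFiltered (SmallModel.{u} (Over A M)) := IsFiltered.of_equivalence (equivSmallModel _)
  hasColimitsOfShape_of_equivalence (equivSmallModel.{u} (Over A M)).symm

theorem isExt_of_preserves (G : ModuleCat.{u} A ⥤ B) [PreservesFilteredColimitsOfSize.{u, u} G] :
    IsExt G := fun M => by
  haveI : IsFiltered (SmallModel.{u} (Over A M)) := IsFiltered.of_equivalence (equivSmallModel _)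
  haveI : PreservesColimitsOfShape (Over A M) G :=
    preservesColimitsOfShape_of_equiv (equivSmallModel.{u} (Over A M)).symm G
  exact ⟨isColimitOfPreserves G (isColimitCanon M)⟩

theorem IsExt.hom_ext {G : ModuleCat.{u} A ⥤ B} (hG : IsExt G) {M : ModuleCat.{u} A} {T : B}
    {f g : G.obj M ⟶ T}
    (h : ∀ (N : FP A) (k : N.obj ⟶ M), G.map k ≫ f = G.map k ≫ g) : f = g :=
  (hG M).some.hom_ext fun a => h a.left a.hom

theorem exists_isExt [HasFilteredColimitsOfSize.{u, u} B] (F : FP A ⥤ B) :
    ∃ G : ModuleCat.{u} A ⥤ B, IsExt G ∧ Nonempty ((fp A).ι ⋙ G ≅ F) := by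
  haveI : ∀ M, HasColimitsOfShape (Over A M) B := hasColimitsOfShape_over
  haveI : (fp A).ι.HasPointwiseLeftKanExtension F := fun M => inferInstance
  let G := (fp A).ι.pointwiseLeftKanExtension F
  haveI : ∀ N : FP A, IsIso (((fp A).ι.pointwiseLeftKanExtensionUnit F).app N) := fun N =>
    (Functor.pointwiseLeftKanExtensionIsPointwiseLeftKanExtension (fp A).ι F _).isIso_hom_app
  haveI : IsIso ((fp A).ι.pointwiseLeftKanExtensionUnit F) := NatIso.isIso_of_isIso_app _
  let η := asIso ((fp A).ι.pointwiseLeftKanExtensionUnit F)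
  refine ⟨G, fun M => ⟨?_⟩, ⟨η.symm⟩⟩
  let h := Functor.pointwiseLeftKanExtensionIsPointwiseLeftKanExtension (fp A).ι F M
  refine ((IsColimit.precomposeHomEquiv
    ((Functor.isoWhiskerLeft (CostructuredArrow.proj (fp A).ι M) η)) _).1 ?_)
  exact IsColimit.ofIsoColimit h (Cocone.ext (Iso.refl _) (fun a => Category.comp_id _))

theorem nonempty_iso {G₁ G₂ : ModuleCat.{u} A ⥤ B} (h₁ : IsExt G₁) (h₂ : IsExt G₂)
    (i : (fp A).ι ⋙ G₁ ≅ (fp A).ι ⋙ G₂) : Nonempty (G₁ ≅ G₂) := by
  refine ⟨NatIso.ofComponents (fun M => (h₁ M).some.coconePointsIsoOfNatIso (h₂ M).some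
    (Functor.isoWhiskerLeft (CostructuredArrow.proj (fp A).ι M) i)) fun {M N} f => ?_⟩
  refine h₁.hom_ext fun K k => ?_
  have e : ∀ {M : ModuleCat.{u} A} (k : K.obj ⟶ M), G₁.map k ≫ ((h₁ M).some.coconePointsIsoOfNatIso (h₂ M).some
      (Functor.isoWhiskerLeft (CostructuredArrow.proj (fp A).ι M) i)).hom = i.hom.app K ≫ G₂.map k := fun {M} k =>
    IsColimit.comp_coconePointsIsoOfNatIso_hom (h₁ M).some (h₂ M).some
      (Functor.isoWhiskerLeft (CostructuredArrow.proj (fp A).ι M) i) (CostructuredArrow.mk (Y := K) k)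
  rw [← Category.assoc, ← G₁.map_comp]
  refine (e _).trans ?_
  rw [← Category.assoc, G₂.map_comp, ← Category.assoc]
  exact (congrArg (· ≫ G₂.map f) (e k)).symm

theorem IsExt.preservesFilteredColimits {G : ModuleCat.{u} A ⥤ B} (hG : IsExt G) :
    PreservesFilteredColimitsOfSize.{u, u} G := by
  refine ⟨fun J _ _ => ⟨fun {D} => ⟨fun {c} hc => ⟨?_⟩⟩⟩⟩
  have hwd : ∀ (s : Cocone (D ⋙ G)) (N : FP A) (i j : J) (p : N.obj ⟶ D.obj i) (q : N.obj ⟶ D.obj j),
      p ≫ c.ι.app i = q ≫ c.ι.app j → G.map p ≫ s.ι.app i = G.map q ≫ s.ι.app j := by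
    intro s N i j p q h
    obtain ⟨k, a, b, e⟩ := exists_eq hc p q h
    rw [← s.w a, ← s.w b, Functor.comp_map, Functor.comp_map, ← G.map_comp_assoc, e, G.map_comp_assoc]
  choose jj pp hpp using fun (N : FP A) (k : N.obj ⟶ c.pt) => exists_factor hc k
  let t : ∀ s : Cocone (D ⋙ G), Cocone (CostructuredArrow.proj (fp A).ι c.pt ⋙ (fp A).ι ⋙ G) := fun s =>
    { pt := s.pt
      ι :=
        { app := fun a => G.map (pp a.left a.hom) ≫ s.ι.app (jj a.left a.hom)
          naturality := fun a b g => by
            show G.map g.left.hom ≫ _ = _ ≫ 𝟙 _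
            rw [Category.comp_id]
            refine (Category.assoc _ _ _).symm.trans ?_
            refine (congrArg (· ≫ _) (G.map_comp _ _).symm).trans ?_
            refine hwd s a.left _ _ _ _ ?_
            rw [Category.assoc, hpp, hpp]
            exact CostructuredArrow.w g } }
  refine { desc := fun s => (hG c.pt).some.desc (t s), fac := fun s j => ?_, uniq := fun s m hm => ?_ }
  · refine hG.hom_ext fun N k => ?_
    refine Eq.trans ?_ (hwd s N (jj N (k ≫ c.ι.app j)) j (pp _ _) k (hpp _ _))
    rw [← Category.assoc]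
    refine Eq.trans (congrArg (· ≫ _) (G.map_comp k (c.ι.app j)).symm) ?_
    exact (hG c.pt).some.fac (t s) (CostructuredArrow.mk (Y := N) (k ≫ c.ι.app j))
  · refine hG.hom_ext fun N k => ?_
    refine Eq.trans ?_ ((hG c.pt).some.fac (t s) (CostructuredArrow.mk (Y := N) k)).symm
    conv_lhs => rw [← hpp N k, G.map_comp, Category.assoc]
    exact congrArg (G.map (pp N k) ≫ ·) (hm (jj N k))

section Additive

variable [Preadditive B]

theorem IsExt.additive {G : ModuleCat.{u} A ⥤ B} (hG : IsExt G) [((fp A).ι ⋙ G).Additive] : G.Additive where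
  map_add {M N f g} := by
    refine hG.hom_ext fun K k => ?_
    let a : Over A N := CostructuredArrow.mk (Y := K) (k ≫ f)
    let b : Over A N := CostructuredArrow.mk (Y := K) (k ≫ g)
    let m := IsFiltered.max a b
    let p' : K ⟶ m.left := (IsFiltered.leftToMax a b).left
    let q' : K ⟶ m.left := (IsFiltered.rightToMax a b).left
    have ep : p'.hom ≫ m.hom = k ≫ f := CostructuredArrow.w (IsFiltered.leftToMax a b)
    have eq : q'.hom ≫ m.hom = k ≫ g := CostructuredArrow.w (IsFiltered.rightToMax a b)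
    have hadd : G.map (p'.hom + q'.hom) = G.map p'.hom + G.map q'.hom :=
      ((fp A).ι ⋙ G).map_add (f := p') (g := q')
    rw [Preadditive.comp_add, ← G.map_comp, ← G.map_comp, ← G.map_comp, Preadditive.comp_add, ← ep, ← eq,
      ← Preadditive.add_comp, G.map_comp, G.map_comp, G.map_comp, hadd, Preadditive.add_comp]

theorem preservesCoproducts [HasFiniteBiproducts B] (G : ModuleCat.{u} A ⥤ B) [G.Additive]
    [PreservesFilteredColimitsOfSize.{u, u} G] (J : Type u) : PreservesColimitsOfShape (Discrete J) G := by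
  classical
  haveI : PreservesFiniteCoproducts G := inferInstance
  haveI : ∀ f : J → ModuleCat.{u} A, PreservesColimit (Discrete.functor f) G := fun f => by
    let hF := isColimitOfPreserves G (CoproductsFromFiniteFiltered.isColimitFiniteSubproductsCocone f)
    let hS := fun S : Finset (Discrete J) =>
      isColimitOfPreserves G (colimit.isColimit (Discrete.functor fun x : S => (Discrete.functor f).obj x.1))
    let t : ∀ s : Cocone (Discrete.functor f ⋙ G),
        Cocone (CoproductsFromFiniteFiltered.liftToFinsetObj (Discrete.functor f) ⋙ G) := fun s =>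
      { pt := s.pt
        ι :=
          { app := fun S => (hS S).desc
              (Cocone.mk s.pt (Discrete.natTrans fun x => s.ι.app x.as.1))
            naturality := fun S T g => (hS S).hom_ext fun ⟨x⟩ => by
              show G.map _ ≫ G.map _ ≫ _ = G.map _ ≫ _ ≫ 𝟙 _
              rw [Category.comp_id, ← G.map_comp_assoc]
              erw [colimit.ι_desc]
              exact ((hS T).fac _ _).trans ((hS S).fac (Cocone.mk s.pt (Discrete.natTrans fun x => s.ι.app x.as.1)) ⟨x⟩).symm } }
    refine preservesColimit_of_preserves_colimit_cocone (colimit.isColimit _) ?_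
    refine { desc := fun s => hF.desc (t s), fac := fun s j => ?_, uniq := fun s m hm => ?_ }
    · let S : Finset (Discrete J) := {j}
      refine Eq.trans ?_ ((hS S).fac (Cocone.mk s.pt (Discrete.natTrans fun x => s.ι.app x.as.1))
        ⟨⟨j, Finset.mem_singleton_self j⟩⟩)
      refine Eq.trans ?_ (congrArg (_ ≫ ·) (hF.fac (t s) S))
      show G.map _ ≫ _ = G.map _ ≫ G.map _ ≫ _
      rw [← G.map_comp_assoc]
      erw [colimit.ι_desc]
      rfl
    · refine hF.hom_ext fun S => ?_
      rw [hF.fac]
      refine (hS S).hom_ext fun ⟨x⟩ => ?_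
      refine Eq.trans ?_ ((hS S).fac (Cocone.mk s.pt (Discrete.natTrans fun x => s.ι.app x.as.1)) ⟨x⟩).symm
      refine Eq.trans ?_ (hm x.1)
      show G.map _ ≫ G.map _ ≫ _ = _
      rw [← G.map_comp_assoc]
      erw [colimit.ι_desc]
      rfl
  exact preservesColimitsOfShape_of_discrete G

end Additive

end Groth.Agent.H17.FPMod
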