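import Groth.Agent.H17.FPMod.RightExact
import Groth.Agent.H17.FPMod.Coherent
import Mathlib

/-!
# Left exactness on finitely presented modules over a coherent ring
-/

set_option autoImplicit false
set_option linter.style.haveILetI false
set_option maxHeartbeats 1000000

universe u v' u'

open CategoryTheory Limits

namespace Groth.Agent.H17.FPMod

variable {A : Type u} [CommRing A]

/-- A criterion for being a filtered colimit of modules. -/
noncomputable def isColimitOfElements {J : Type*} [Category J] [IsFiltered J] {D : J ⥤ ModuleCat.{u} A}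
    (c : Cocone D) (hsurj : ∀ x : c.pt, ∃ j, ∃ y : D.obj j, c.ι.app j y = x)
    (hzero : ∀ j (y : D.obj j), c.ι.app j y = 0 → ∃ k, ∃ g : j ⟶ k, D.map g y = 0) : IsColimit c := by
  choose jj yy hyy using hsurj
  have hwd : ∀ (s : Cocone D) (i j : J) (y : D.obj i) (z : D.obj j),
      c.ι.app i y = c.ι.app j z → s.ι.app i y = s.ι.app j z := by
    intro s i j y z h
    obtain ⟨k, g, hg⟩ := hzero (IsFiltered.max i j)
      (D.map (IsFiltered.leftToMax i j) y - D.map (IsFiltered.rightToMax i j) z) (by
        rw [map_sub]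
        exact sub_eq_zero.2 (((ConcreteCategory.congr_hom (c.w _) y).trans h).trans
          (ConcreteCategory.congr_hom (c.w _) z).symm))
    rw [map_sub, sub_eq_zero] at hg
    have e := congrArg (s.ι.app k) hg
    rwa [← ConcreteCategory.comp_apply, ← ConcreteCategory.comp_apply, ← ConcreteCategory.comp_apply,
      ← ConcreteCategory.comp_apply, ← D.map_comp_assoc, ← D.map_comp_assoc, s.w, s.w] at e
  refine
    { desc := fun s => ModuleCat.ofHom
        { toFun := fun x => s.ι.app (jj x) (yy x)
          map_add' := fun x x' => ?_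
          map_smul' := fun r x => ?_ }
      fac := fun s j => ?_
      uniq := fun s m hm => ?_ }
  · let l := IsFiltered.leftToMax (jj x) (jj x')
    let r := IsFiltered.rightToMax (jj x) (jj x')
    rw [hwd s (jj (x + x')) (IsFiltered.max (jj x) (jj x')) _ (D.map l (yy x) + D.map r (yy x')) (by
      rw [hyy, map_add]
      exact (congrArg₂ (· + ·) ((ConcreteCategory.congr_hom (c.w l) _).trans (hyy x))
        ((ConcreteCategory.congr_hom (c.w r) _).trans (hyy x'))).symm), map_add]
    exact congrArg₂ (· + ·) (ConcreteCategory.congr_hom (s.w l) _) (ConcreteCategory.congr_hom (s.w r) _)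
  · show s.ι.app (jj (r • x)) (yy (r • x)) = r • s.ι.app (jj x) (yy x)
    rw [hwd s (jj (r • x)) (jj x) _ (r • yy x) (by
      rw [hyy]
      exact (((c.ι.app (jj x)).hom.map_smul r (yy x)).trans (congrArg (r • ·) (hyy x))).symm)]
    exact (s.ι.app (jj x)).hom.map_smul r _
  · ext y
    exact hwd s _ _ _ _ (hyy _)
  · ext x
    show m x = s.ι.app (jj x) (yy x)
    rw [← hm (jj x), ConcreteCategory.comp_apply, hyy]

variable (A) in
/-- Morphisms of finitely presented modules. -/
abbrev FPArrow := Arrow (FP A)

variable {M N : ModuleCat.{u} A} (f : M ⟶ N)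

/-- Morphisms of finitely presented modules over a given morphism. -/
abbrev OverArrow := CostructuredArrow (fp A).ι.mapArrow (Arrow.mk f)

instance : EssentiallySmall.{u} (FPArrow A) :=
  EssentiallySmall.mk' (equivSmallModel.{u} (FP A)).functor.mapArrow.asEquivalence

variable {f}

/-- The source of the arrow. -/
abbrev srcMap (c : OverArrow f) : c.left.left.obj ⟶ M := c.hom.left

/-- The target of the arrow. -/
abbrev tgtMap (c : OverArrow f) : c.left.right.obj ⟶ N := c.hom.right

theorem over_w (c : OverArrow f) (x : c.left.left.obj) : tgtMap c (c.left.hom.hom x) = f (srcMap c x) :=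
  (ConcreteCategory.congr_hom (Arrow.w c.hom) x).symm

/-- An object of `OverArrow`. -/
abbrev mkOver {K L : FP A} (u : K ⟶ L) (k : K.obj ⟶ M) (l : L.obj ⟶ N) (w : u.hom ≫ l = k ≫ f) : OverArrow f :=
  CostructuredArrow.mk (Y := Arrow.mk u) (Arrow.homMk k l w.symm)

/-- A morphism of `OverArrow`. -/
abbrev mkOverHom {c d : OverArrow f} (p : c.left.left ⟶ d.left.left) (q : c.left.right ⟶ d.left.right)
    (w : p ≫ d.left.hom = c.left.hom ≫ q) (h1 : p.hom ≫ srcMap d = srcMap c)
    (h2 : q.hom ≫ tgtMap d = tgtMap c) : c ⟶ d :=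
  CostructuredArrow.homMk (Arrow.homMk p q w) (Arrow.hom_ext _ _ h1 h2)

theorem exists_quot (c : OverArrow f) {P Q : Type u} [AddCommGroup P] [Module A P] [Module.Finite A P]
    [AddCommGroup Q] [Module A Q] [Module.Finite A Q] (δ : P →ₗ[A] c.left.left.obj) (ε : Q →ₗ[A] c.left.right.obj)
    (hδ : ∀ x, srcMap c (δ x) = 0) (hε : ∀ x, tgtMap c (ε x) = 0) :
    ∃ (d : OverArrow f) (g : c ⟶ d), (∀ x, g.left.left.hom (δ x) = 0) ∧ ∀ x, g.left.right.hom (ε x) = 0 := by
  let u := c.left.hom.hom.hom
  let ε' := LinearMap.coprod ε (u ∘ₗ δ)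
  haveI := fp_quotient_range δ
  haveI := fp_quotient_range ε'
  have hε' : LinearMap.range ε' ≤ LinearMap.ker (tgtMap c).hom := by
    rintro _ ⟨⟨x, y⟩, rfl⟩
    show tgtMap c (ε x + c.left.hom.hom (δ y)) = 0
    rw [map_add, hε, over_w, hδ, map_zero, add_zero]
  have hδ' : LinearMap.range δ ≤ LinearMap.ker (srcMap c).hom := by
    rintro _ ⟨x, rfl⟩; exact hδ x
  have hu : LinearMap.range δ ≤ (LinearMap.range ε').comap u := by
    rintro _ ⟨x, rfl⟩; exact ⟨((0 : Q), x), by simp [ε']⟩
  refine ⟨mkOver (K := mkFP A (c.left.left.obj ⧸ LinearMap.range δ)) (L := mkFP A (c.left.right.obj ⧸ LinearMap.range ε'))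
      (fhom ((LinearMap.range δ).mapQ _ u hu)) (ModuleCat.ofHom ((LinearMap.range δ).liftQ _ hδ'))
      (ModuleCat.ofHom ((LinearMap.range ε').liftQ _ hε')) ?_,
    mkOverHom (fhom (LinearMap.range δ).mkQ) (fhom (LinearMap.range ε').mkQ) ?_ ?_ ?_, ?_, ?_⟩
  · apply ModuleCat.hom_ext
    refine Submodule.linearMap_qext _ (LinearMap.ext fun x => ?_)
    exact over_w c x
  · exact ObjectProperty.hom_ext _ (ModuleCat.hom_ext (LinearMap.ext fun x => rfl))
  · exact ModuleCat.hom_ext (LinearMap.ext fun x => rfl)
  · exact ModuleCat.hom_ext (LinearMap.ext fun x => rfl)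
  · exact fun x => (Submodule.Quotient.mk_eq_zero _).2 ⟨x, rfl⟩
  · exact fun x => (Submodule.Quotient.mk_eq_zero _).2 ⟨(x, 0), by simp [ε']⟩

instance : IsFiltered (OverArrow f) where
  nonempty := ⟨mkOver (K := mkFP A PUnit) (L := mkFP A PUnit) (𝟙 _) 0 0 (by simp)⟩
  cocone_objs a b := by
    let u : mkFP A (a.left.left.obj × b.left.left.obj) ⟶ mkFP A (a.left.right.obj × b.left.right.obj) :=
      fhom (a.left.hom.hom.hom.prodMap b.left.hom.hom.hom)
    let c : OverArrow f := mkOver u
      (ModuleCat.ofHom ((srcMap a).hom.coprod (srcMap b).hom))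
      (ModuleCat.ofHom ((tgtMap a).hom.coprod (tgtMap b).hom)) (by
        apply ModuleCat.hom_ext
        apply LinearMap.ext
        rintro ⟨x, y⟩
        show tgtMap a (a.left.hom.hom x) + tgtMap b (b.left.hom.hom y) = f (srcMap a x + srcMap b y)
        rw [over_w, over_w, map_add])
    refine ⟨c, mkOverHom (fhom (LinearMap.inl A _ _)) (fhom (LinearMap.inl A _ _)) ?_ ?_ ?_,
      mkOverHom (fhom (LinearMap.inr A _ _)) (fhom (LinearMap.inr A _ _)) ?_ ?_ ?_, trivial⟩
    · refine ObjectProperty.hom_ext _ (ModuleCat.hom_ext (LinearMap.ext fun x => ?_))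
      show ((a.left.hom.hom x, b.left.hom.hom 0) : _ × _) = (a.left.hom.hom x, 0)
      rw [map_zero]
    · refine ModuleCat.hom_ext (LinearMap.ext fun x => ?_)
      exact (congrArg ((srcMap a).hom x + ·) (map_zero (srcMap b).hom)).trans (add_zero _)
    · refine ModuleCat.hom_ext (LinearMap.ext fun x => ?_)
      exact (congrArg ((tgtMap a).hom x + ·) (map_zero (tgtMap b).hom)).trans (add_zero _)
    · refine ObjectProperty.hom_ext _ (ModuleCat.hom_ext (LinearMap.ext fun x => ?_))
      show ((a.left.hom.hom 0, b.left.hom.hom x) : _ × _) = (0, b.left.hom.hom x)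
      rw [map_zero]
    · refine ModuleCat.hom_ext (LinearMap.ext fun x => ?_)
      exact (congrArg (· + (srcMap b).hom x) (map_zero (srcMap a).hom)).trans (zero_add _)
    · refine ModuleCat.hom_ext (LinearMap.ext fun x => ?_)
      exact (congrArg (· + (tgtMap b).hom x) (map_zero (tgtMap a).hom)).trans (zero_add _)
  cocone_maps a b s t := by
    obtain ⟨d, g, h1, h2⟩ := exists_quot b (s.left.left.hom.hom - t.left.left.hom.hom)
      (s.left.right.hom.hom - t.left.right.hom.hom)
      (fun x => by
        have e1 : srcMap b (s.left.left.hom x) = srcMap a x :=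
          ConcreteCategory.congr_hom (congrArg CommaMorphism.left (CostructuredArrow.w s)) x
        have e2 : srcMap b (t.left.left.hom x) = srcMap a x :=
          ConcreteCategory.congr_hom (congrArg CommaMorphism.left (CostructuredArrow.w t)) x
        rw [LinearMap.sub_apply, map_sub, sub_eq_zero]
        exact e1.trans e2.symm)
      (fun x => by
        have e1 : tgtMap b (s.left.right.hom x) = tgtMap a x :=
          ConcreteCategory.congr_hom (congrArg CommaMorphism.right (CostructuredArrow.w s)) x
        have e2 : tgtMap b (t.left.right.hom x) = tgtMap a x :=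
          ConcreteCategory.congr_hom (congrArg CommaMorphism.right (CostructuredArrow.w t)) x
        rw [LinearMap.sub_apply, map_sub, sub_eq_zero]
        exact e1.trans e2.symm)
    refine ⟨d, g, CostructuredArrow.hom_ext _ _ (Arrow.hom_ext _ _ ?_ ?_)⟩
    · refine ObjectProperty.hom_ext _ (ModuleCat.hom_ext (LinearMap.ext fun x => ?_))
      exact sub_eq_zero.1 ((map_sub g.left.left.hom.hom _ _).symm.trans (h1 x))
    · refine ObjectProperty.hom_ext _ (ModuleCat.hom_ext (LinearMap.ext fun x => ?_))
      exact sub_eq_zero.1 ((map_sub g.left.right.hom.hom _ _).symm.trans (h2 x))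

/-- The sources, as a functor. -/
abbrev srcF : OverArrow f ⥤ FP A := CostructuredArrow.proj _ _ ⋙ Arrow.leftFunc

/-- The targets, as a functor. -/
abbrev tgtF : OverArrow f ⥤ FP A := CostructuredArrow.proj _ _ ⋙ Arrow.rightFunc

/-- The arrows, as a natural transformation. -/
abbrev arrowT : srcF (f := f) ⟶ tgtF := Functor.whiskerLeft _ Arrow.leftToRight

variable (hcoh : ∀ I : Ideal A, I.FG → Module.FinitePresentation A I)

/-- The kernels, as a functor. -/
noncomputable def kerF : OverArrow f ⥤ FP A where
  obj c :=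
    haveI := fp_ker hcoh c.left.hom.hom.hom
    mkFP A (LinearMap.ker c.left.hom.hom.hom)
  map {c d} g :=
    haveI := fp_ker hcoh c.left.hom.hom.hom
    haveI := fp_ker hcoh d.left.hom.hom.hom
    fhom (g.left.left.hom.hom.restrict fun x hx => by
      have e : d.left.hom.hom (g.left.left.hom x) = g.left.right.hom (c.left.hom.hom x) :=
        ConcreteCategory.congr_hom (congrArg (fun e => e.hom) (Arrow.w g.left)) x
      exact e.trans ((congrArg g.left.right.hom.hom (LinearMap.mem_ker.1 hx)).trans (map_zero _)))
  map_id c := by ext; rfl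
  map_comp g h := by ext; rfl

/-- The inclusion of the kernels. -/
noncomputable def kerι : kerF (f := f) hcoh ⟶ srcF where
  app c := ObjectProperty.homMk (ModuleCat.ofHom (LinearMap.ker c.left.hom.hom.hom).subtype)
  naturality c d g := by ext; rfl

theorem kerι_comp : kerι (f := f) hcoh ≫ arrowT = 0 := by
  ext c x
  exact x.2

/-- The cocone of sources. -/
def srcC : Cocone (srcF (f := f) ⋙ (fp A).ι) where
  pt := M
  ι :=
    { app c := srcMap c
      naturality c d g := (congrArg CommaMorphism.left (CostructuredArrow.w g)).trans (Category.comp_id _).symm }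

/-- The cocone of targets. -/
def tgtC : Cocone (tgtF (f := f) ⋙ (fp A).ι) where
  pt := N
  ι :=
    { app c := tgtMap c
      naturality c d g := (congrArg CommaMorphism.right (CostructuredArrow.w g)).trans (Category.comp_id _).symm }

/-- The cocone of kernels. -/
noncomputable def kerC : Cocone (kerF (f := f) hcoh ⋙ (fp A).ι) where
  pt := ModuleCat.of A (LinearMap.ker f.hom)
  ι :=
    { app c := ModuleCat.ofHom ((srcMap c).hom.restrict fun x hx =>
        ((over_w c x).symm.trans ((congrArg (tgtMap c) (LinearMap.mem_ker.1 hx)).trans (map_zero _))))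
      naturality c d g := by
        ext x
        exact Subtype.ext (ConcreteCategory.congr_hom (congrArg CommaMorphism.left (CostructuredArrow.w g)) x.1) }

theorem exists_zero_src (c : OverArrow f) (x : c.left.left.obj) (hx : srcMap c x = 0) :
    ∃ (d : OverArrow f) (g : c ⟶ d), g.left.left.hom x = 0 := by
  obtain ⟨d, g, h1, -⟩ := exists_quot c (LinearMap.toSpanSingleton A _ x) (0 : A →ₗ[A] c.left.right.obj)
    (fun r => by rw [LinearMap.toSpanSingleton_apply]; exact ((srcMap c).hom.map_smul r x).trans (by rw [show (srcMap c).hom x = 0 from hx, smul_zero]))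
    (fun r => by simp)
  exact ⟨d, g, (congrArg g.left.left.hom.hom (one_smul A x)).symm.trans (h1 (1 : A))⟩

/-- `M` is the colimit of the sources. -/
noncomputable def isColimitSrc : IsColimit (srcC (f := f)) :=
  isColimitOfElements _
    (fun x => ⟨mkOver (K := mkFP A A) (L := mkFP A A) (𝟙 _) (ModuleCat.ofHom (LinearMap.toSpanSingleton A M x))
      (ModuleCat.ofHom (LinearMap.toSpanSingleton A M x) ≫ f) (Category.id_comp _), (1 : A), one_smul A x⟩)
    (fun c y hy => exists_zero_src c y hy)

/-- `N` is the colimit of the targets. -/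
noncomputable def isColimitTgt : IsColimit (tgtC (f := f)) :=
  isColimitOfElements _
    (fun x => ⟨mkOver (K := mkFP A PUnit) (L := mkFP A A) 0 0 (ModuleCat.ofHom (LinearMap.toSpanSingleton A N x))
      (by simp), (1 : A), one_smul A x⟩)
    (fun c y hy => by
      obtain ⟨d, g, -, h2⟩ := exists_quot c (0 : A →ₗ[A] c.left.left.obj) (LinearMap.toSpanSingleton A _ y)
        (fun r => by simp)
        (fun r => by rw [LinearMap.toSpanSingleton_apply]; exact ((tgtMap c).hom.map_smul r y).trans (by rw [show (tgtMap c).hom y = 0 from hy, smul_zero]))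
      exact ⟨d, g, (congrArg g.left.right.hom.hom (one_smul A y)).symm.trans (h2 (1 : A))⟩)

/-- The kernel is the colimit of the kernels. -/
noncomputable def isColimitKer : IsColimit (kerC (f := f) hcoh) :=
  isColimitOfElements _
    (fun x => ⟨mkOver (K := mkFP A A) (L := mkFP A PUnit) 0 (ModuleCat.ofHom (LinearMap.toSpanSingleton A M x.1)) 0
      (by
        apply ModuleCat.hom_ext
        refine LinearMap.ext_ring ?_
        show (0 : N) = f ((1 : A) • x.1)
        rw [one_smul]
        exact x.2.symm), ⟨(1 : A), rfl⟩, Subtype.ext (one_smul A x.1)⟩)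
    (fun c y hy => by
      obtain ⟨d, g, hg⟩ := exists_zero_src c y.1 (congrArg Subtype.val hy)
      exact ⟨d, g, Subtype.ext hg⟩)

variable {B : Type u'} [Category.{v'} B] [Preadditive B] [HasFiniteBiproducts B]

include hcoh in
theorem preservesFiniteLimits_of_filtered [HasFilteredColimitsOfSize.{u, u} B]
    (hcomm : ∀ (J : Type u) [SmallCategory J] [IsFiltered J],
      PreservesLimitsOfShape WalkingParallelPair (colim : (J ⥤ B) ⥤ B))
    (G : ModuleCat.{u} A ⥤ B) [PreservesFilteredColimitsOfSize.{u, u} G] [G.Additive]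
    [PreservesFiniteLimits ((fp A).ι ⋙ G)] : PreservesFiniteLimits G := by
  haveI : ∀ {M N : ModuleCat.{u} A} (f : M ⟶ N), PreservesLimit (parallelPair f 0) G := fun {M N} f => by
    let e := equivSmallModel.{u} (OverArrow f)
    let J := SmallModel.{u} (OverArrow f)
    haveI : IsFiltered J := IsFiltered.of_equivalence e
    haveI : HasColimitsOfShape J B := inferInstance
    let res (D : OverArrow f ⥤ FP A) : J ⥤ B := e.inverse ⋙ D ⋙ (fp A).ι ⋙ G
    let hs {D : OverArrow f ⥤ FP A} {c : Cocone (D ⋙ (fp A).ι)} (hc : IsColimit c) :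
        IsColimit (G.mapCocone (c.whisker e.inverse)) :=
      isColimitOfPreserves G (hc.whiskerEquivalence e.symm)
    let α : res (kerF hcoh) ⟶ res srcF := Functor.whiskerLeft e.inverse (Functor.whiskerRight (kerι hcoh) ((fp A).ι ⋙ G))
    let β : res srcF ⟶ res tgtF := Functor.whiskerLeft e.inverse (Functor.whiskerRight arrowT ((fp A).ι ⋙ G))
    have hαβ : α ≫ β = 0 := by
      ext j
      show G.map ((kerι hcoh).app _).hom ≫ G.map (arrowT.app _).hom = 0
      rw [← G.map_comp, show ((kerι (f := f) hcoh).app (e.inverse.obj j)).hom ≫ (arrowT.app (e.inverse.obj j)).hom = 0 from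
        congrArg (fun e => e.hom) (congrArg (fun t => NatTrans.app t (e.inverse.obj j)) (kerι_comp (f := f) hcoh)),
        G.map_zero]
    have hlim : IsLimit (KernelFork.ofι α hαβ) := by
      refine evaluationJointlyReflectsLimits _ fun j => ?_
      refine (KernelFork.isLimitMapConeEquiv _ ((evaluation J B).obj j)).symm ?_
      let c := e.inverse.obj j
      have w : (kerι (f := f) hcoh).app c ≫ c.left.hom = 0 :=
        congrArg (fun t => NatTrans.app t c) (kerι_comp (f := f) hcoh)
      haveI : Mono ((kerι (f := f) hcoh).app c) :=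
        (fp A).ι.mono_of_mono_map ((ModuleCat.mono_iff_injective _).2 Subtype.val_injective)
      have hk : IsLimit (KernelFork.ofι ((kerι (f := f) hcoh).app c) w) :=
        KernelFork.IsLimit.ofι' _ w fun {T} k hk =>
          ⟨ObjectProperty.homMk (ModuleCat.ofHom (k.hom.hom.codRestrict (LinearMap.ker c.left.hom.hom.hom)
            fun x => ConcreteCategory.congr_hom (congrArg (fun e : T ⟶ c.left.right => e.hom) hk) x)), by ext; rfl⟩
      haveI : ((fp A).ι ⋙ G).PreservesZeroMorphisms := inferInstance
      exact KernelFork.mapIsLimit _ hk ((fp A).ι ⋙ G)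
    haveI := hcomm J
    haveI : (colim : (J ⥤ B) ⥤ B).PreservesZeroMorphisms := ⟨fun _ _ => colimit.hom_ext fun j => by simp⟩
    have hc := KernelFork.mapIsLimit _ hlim (colim : (J ⥤ B) ⥤ B)
    let eM : colimit (res srcF) ≅ G.obj M := (colimit.isColimit (res srcF)).coconePointUniqueUpToIso (hs (isColimitSrc (f := f)))
    let eN : colimit (res tgtF) ≅ G.obj N := (colimit.isColimit (res tgtF)).coconePointUniqueUpToIso (hs (isColimitTgt (f := f)))
    let eL : colimit (res (kerF hcoh)) ≅ G.obj (ModuleCat.of A (LinearMap.ker f.hom)) := (colimit.isColimit (res (kerF hcoh))).coconePointUniqueUpToIso (hs (isColimitKer (f := f) hcoh))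
    let i : ModuleCat.of A (LinearMap.ker f.hom) ⟶ M := ModuleCat.ofHom (LinearMap.ker f.hom).subtype
    have hα : colimMap α ≫ eM.hom = eL.hom ≫ G.map i := colimit.hom_ext fun j => by
      rw [ι_colimMap_assoc]
      erw [(colimit.isColimit (res srcF)).comp_coconePointUniqueUpToIso_hom]
      erw [reassoc_of% ((colimit.isColimit (res (kerF hcoh))).comp_coconePointUniqueUpToIso_hom (hs (isColimitKer (f := f) hcoh)) j)]
      exact (G.map_comp _ _).symm.trans ((congrArg G.map (by ext; rfl)).trans (G.map_comp _ _))
    have hβ : colimMap β ≫ eN.hom = eM.hom ≫ G.map f := colimit.hom_ext fun j => by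
      rw [ι_colimMap_assoc]
      erw [(colimit.isColimit (res tgtF)).comp_coconePointUniqueUpToIso_hom]
      erw [reassoc_of% ((colimit.isColimit (res srcF)).comp_coconePointUniqueUpToIso_hom (hs (isColimitSrc (f := f))) j)]
      exact (G.map_comp _ _).symm.trans ((congrArg G.map (Arrow.w (e.inverse.obj j).hom).symm).trans (G.map_comp _ _))
    haveI : Mono (colimMap α) := mono_of_isLimit_fork hc
    haveI : Mono (G.map i) := by
      have : G.map i = eL.inv ≫ colimMap α ≫ eM.hom := by rw [hα, Iso.inv_hom_id_assoc]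
      rw [this]; infer_instance
    have w : G.map i ≫ G.map f = 0 := by
      rw [← G.map_comp, show i ≫ f = 0 by ext x; exact x.2, G.map_zero]
    refine preservesLimit_of_preserves_limit_cone (ModuleCat.kernelIsLimit f) ?_
    refine (KernelFork.isLimitMapConeEquiv _ G).symm ?_
    exact KernelFork.IsLimit.ofι' (G.map i) w fun {T} k hk => by
      have hk' : (k ≫ eM.inv) ≫ colimMap β = 0 := by
        rw [← cancel_mono eN.hom, Category.assoc, hβ, Category.assoc, Iso.inv_hom_id_assoc, hk, zero_comp]
      let l : T ⟶ colimit (res (kerF hcoh)) := hc.lift (KernelFork.ofι (k ≫ eM.inv) hk')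
      have hl : l ≫ colimMap α = k ≫ eM.inv := hc.fac (KernelFork.ofι (k ≫ eM.inv) hk') .zero
      refine ⟨l ≫ eL.hom, ?_⟩
      refine (Category.assoc _ _ _).trans ((congrArg (l ≫ ·) hα.symm).trans ?_)
      refine (Category.assoc _ _ _).symm.trans ((congrArg (· ≫ eM.hom) hl).trans ?_)
      rw [Category.assoc, Iso.inv_hom_id, Category.comp_id]
  exact G.preservesFiniteLimits_of_preservesKernels

theorem additive_of_leftExact (F : FP A ⥤ B) [PreservesFiniteLimits F] : F.Additive :=
  Functor.additive_of_preserves_binary_products F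

end Groth.Agent.H17.FPMod
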