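import Groth.Agent.H17.FPMod.Ext
import Mathlib

/-!
# Right exactness on finitely presented modules
-/

set_option autoImplicit false
set_option linter.style.haveILetI false
set_option maxHeartbeats 1000000

universe u v' u'

open CategoryTheory Limits

namespace Groth.Agent.H17.FPMod

variable {A : Type u} [CommRing A]

/-- A morphism of `FP A` from a linear map. -/
abbrev fhom {M N : FP A} (f : M.obj →ₗ[A] N.obj) : M ⟶ N :=
  ObjectProperty.homMk (ModuleCat.ofHom f)

instance : HasZeroObject (FP A) where
  zero := by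
    refine ⟨mkFP A PUnit, ?_⟩
    rw [IsZero.iff_id_eq_zero]
    apply ObjectProperty.hom_ext
    ext x

instance : HasBinaryBiproducts (FP A) where
  has_binary_biproduct M N :=
    HasBinaryBiproduct.mk
      { bicone :=
          { pt := mkFP A (M.obj × N.obj)
            fst := fhom (LinearMap.fst A _ _)
            snd := fhom (LinearMap.snd A _ _)
            inl := fhom (LinearMap.inl A _ _)
            inr := fhom (LinearMap.inr A _ _) }
        isBilimit := isBinaryBilimitOfTotal _ (by
          apply ObjectProperty.hom_ext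
          apply ModuleCat.hom_ext
          apply LinearMap.ext
          rintro ⟨a, b⟩
          show ((a, (0 : N.obj)) + ((0 : M.obj), b)) = (a, b)
          simp) }

instance : HasFiniteProducts (FP A) := hasFiniteProducts_of_has_binary_and_terminal

instance : HasFiniteBiproducts (FP A) := HasFiniteBiproducts.of_hasFiniteProducts

theorem epi_of_surjective {N Q : FP A} (g : N ⟶ Q) (hg : Function.Surjective g.hom) : Epi g :=
  (fp A).ι.epi_of_epi_map ((ModuleCat.epi_iff_surjective _).2 hg)

/-- The cokernel of a morphism of finitely presented modules. -/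
noncomputable def isColimitCokernel {M N Q : FP A} (f : M ⟶ N) (g : N ⟶ Q)
    (hg : Function.Surjective g.hom) (hex : Function.Exact f.hom g.hom) (w : f ≫ g = 0) :
    IsColimit (CokernelCofork.ofπ g w) :=
  haveI := epi_of_surjective g hg
  CokernelCofork.IsColimit.ofπ' g w fun {T} k hk =>
    have hle : LinearMap.ker g.hom.hom ≤ LinearMap.ker k.hom.hom := fun x hx => by
      obtain ⟨y, rfl⟩ := (hex x).1 hx
      exact ConcreteCategory.congr_hom (congrArg (fun e => e.hom) hk) y
    ⟨fhom ((LinearMap.ker g.hom.hom).liftQ k.hom.hom hle ∘ₗ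
      (g.hom.hom.quotKerEquivOfSurjective hg).symm.toLinearMap), by
      apply ObjectProperty.hom_ext
      apply ModuleCat.hom_ext
      refine LinearMap.ext fun x => ?_
      show (LinearMap.ker g.hom.hom).liftQ k.hom.hom hle
        ((g.hom.hom.quotKerEquivOfSurjective hg).symm (g.hom.hom x)) = k.hom.hom x
      rw [show (g.hom.hom.quotKerEquivOfSurjective hg).symm (g.hom.hom x) = Submodule.Quotient.mk x from
        (LinearEquiv.symm_apply_eq _).2 rfl, Submodule.liftQ_apply]⟩

instance : HasCokernels (FP A) where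
  has_colimit {M N} f := by
    haveI := fp_quotient_range f.hom.hom
    let g : N ⟶ mkFP A (N.obj ⧸ f.hom.hom.range) := fhom f.hom.hom.range.mkQ
    exact HasColimit.mk ⟨_, isColimitCokernel f g (Submodule.mkQ_surjective _) (LinearMap.exact_map_mkQ_range _) (by
      apply ObjectProperty.hom_ext
      apply ModuleCat.hom_ext
      exact f.hom.hom.range_mkQ_comp)⟩

/-- A finite free presentation. -/
theorem exists_presentation (K : FP A) : ∃ (n m : ℕ) (π : mkFP A (Fin n → A) ⟶ K)
    (r : mkFP A (Fin m → A) ⟶ mkFP A (Fin n → A)), Function.Surjective π.hom ∧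
      Function.Exact r.hom π.hom ∧ r ≫ π = 0 := by
  obtain ⟨n, m, π, r, hπ, hex⟩ := Module.FinitePresentation.exists_fin' A K.obj
  refine ⟨n, m, fhom π, fhom r, hπ, hex, ?_⟩
  apply ObjectProperty.hom_ext
  apply ModuleCat.hom_ext
  exact hex.linearMap_comp_eq_zero

/-- Finite free modules lift along surjections. -/
theorem exists_lift {n : ℕ} {M N : ModuleCat.{u} A} (p : M ⟶ N) (hp : Function.Surjective p)
    (k : ModuleCat.of A (Fin n → A) ⟶ N) : ∃ l : ModuleCat.of A (Fin n → A) ⟶ M, l ≫ p = k := by
  obtain ⟨l, hl⟩ := Module.projective_lifting_property p.hom k.hom hp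
  exact ⟨ModuleCat.ofHom l, ModuleCat.hom_ext hl⟩

variable {B : Type u'} [Category.{v'} B] [Preadditive B] [HasFiniteBiproducts B]

section

variable (F : FP A ⥤ B) [PreservesFiniteColimits F]

theorem additive_of_rightExact : F.Additive := by
  haveI : PreservesBinaryBiproducts F := preservesBinaryBiproducts_of_preservesBinaryCoproducts F
  exact F.additive_of_preservesBinaryBiproducts

/-- A right exact functor on finitely presented modules turns presentations into cokernels. -/
theorem isColimit_map {M N Q : FP A} (f : M ⟶ N) (g : N ⟶ Q)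
    (hg : Function.Surjective g.hom) (hex : Function.Exact f.hom g.hom) (w : f ≫ g = 0) :
    ∃ w' : F.map f ≫ F.map g = 0, Nonempty (IsColimit (CokernelCofork.ofπ (F.map g) w')) := by
  haveI := additive_of_rightExact F
  exact ⟨by rw [← F.map_comp, w, F.map_zero],
    ⟨CokernelCofork.mapIsColimit _ (isColimitCokernel f g hg hex w) F⟩⟩

theorem epi_map {N Q : FP A} (g : N ⟶ Q) (hg : Function.Surjective g.hom) : Epi (F.map g) := by
  haveI := epi_of_surjective g hg
  infer_instance

end

section Extension

variable (G : ModuleCat.{u} A ⥤ B) [G.Additive] (hG : IsExt G)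
  [PreservesFiniteColimits ((fp A).ι ⋙ G)]

include hG

theorem epi_map_presentation {K : FP A} {n : ℕ} (π : mkFP A (Fin n → A) ⟶ K) (hπ : Function.Surjective π.hom) :
    Epi (G.map π.hom) :=
  epi_map ((fp A).ι ⋙ G) π hπ

/-- `G` sends exact sequences to cokernels. -/
theorem isColimit_map_ext {M N Q : ModuleCat.{u} A} (f : M ⟶ N) (g : N ⟶ Q)
    (hg : Function.Surjective g) (hex : Function.Exact f g) (w : G.map f ≫ G.map g = 0) :
    Nonempty (IsColimit (CokernelCofork.ofπ (G.map g) w)) := by
  have hlift : ∀ {n : ℕ} (d : ModuleCat.of A (Fin n → A) ⟶ N), d ≫ g = 0 → ∃ e, e ≫ f = d := by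
    intro n d hd
    have hmem : ∀ x, d.hom x ∈ LinearMap.range f.hom := fun x =>
      (hex _).1 (ConcreteCategory.congr_hom hd x)
    obtain ⟨e, he⟩ := Module.projective_lifting_property f.hom.rangeRestrict (d.hom.codRestrict _ hmem)
      f.hom.surjective_rangeRestrict
    exact ⟨ModuleCat.ofHom e, ModuleCat.hom_ext (LinearMap.ext fun x => congrArg Subtype.val (LinearMap.congr_fun he x))⟩
  choose n m π r hπ hr hrπ using fun K : FP A => exists_presentation K
  choose a ha using fun (K : FP A) (k : K.obj ⟶ Q) => exists_lift g hg ((π K).hom ≫ k)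
  haveI hepi : Epi (G.map g) := ⟨fun {T} t t' htt => hG.hom_ext fun K k => by
    haveI := epi_map_presentation G hG (π K) (hπ K)
    rw [← cancel_epi (G.map (π K).hom), ← G.map_comp_assoc, ← G.map_comp_assoc, ← ha, G.map_comp, Category.assoc,
      Category.assoc, htt]⟩
  have hex' : ∀ {T : B} (h : G.obj N ⟶ T), G.map f ≫ h = 0 → ∃ m, G.map g ≫ m = h := by
    intro T h hh
    have key : ∀ (K : FP A) (k : K.obj ⟶ Q), ∃ u : G.obj K.obj ⟶ T, G.map (π K).hom ≫ u = G.map (a K k) ≫ h := by
      intro K k
      obtain ⟨w', ⟨hc⟩⟩ := isColimit_map ((fp A).ι ⋙ G) (r K) (π K) (hπ K) (hr K) (hrπ K)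
      have h0 : G.map (r K).hom ≫ G.map (a K k) ≫ h = 0 := by
        obtain ⟨e, he⟩ := hlift ((r K).hom ≫ a K k) (by
          rw [Category.assoc, ha, ← Category.assoc,
            show (r K).hom ≫ (π K).hom = 0 from congrArg (fun e => e.hom) (hrπ K), zero_comp])
        rw [← G.map_comp_assoc, ← he, G.map_comp_assoc, hh, comp_zero]
      exact ⟨hc.desc (CokernelCofork.ofπ (G.map (a K k) ≫ h) h0), hc.fac (CokernelCofork.ofπ _ h0) .one⟩
    choose u hu using key
    have indep : ∀ (K : FP A) (k : K.obj ⟶ Q) (l : ℕ) (ρ : ModuleCat.of A (Fin l → A) ⟶ K.obj)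
        (b : ModuleCat.of A (Fin l → A) ⟶ N), b ≫ g = ρ ≫ k → G.map ρ ≫ u K k = G.map b ≫ h := by
      intro K k l ρ b hb
      obtain ⟨c, hc⟩ := exists_lift (π K).hom (hπ K) ρ
      obtain ⟨e, he⟩ := hlift (b - c ≫ a K k) (by
        rw [Preadditive.sub_comp, Category.assoc, ha, reassoc_of% hc, hb, sub_self])
      have he' : b = c ≫ a K k + e ≫ f := by rw [he]; abel
      rw [← hc, he', G.map_add, Preadditive.add_comp, G.map_comp, G.map_comp, Category.assoc, hu,
        G.map_comp, Category.assoc, Category.assoc, hh, comp_zero, add_zero]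
    let s : Cocone (CostructuredArrow.proj (fp A).ι Q ⋙ (fp A).ι ⋙ G) :=
      { pt := T
        ι :=
          { app := fun x => u x.left x.hom
            naturality := fun x y g' => by
              show G.map g'.left.hom ≫ _ = _ ≫ 𝟙 _
              rw [Category.comp_id]
              haveI := epi_map_presentation G hG (π x.left) (hπ x.left)
              rw [← cancel_epi (G.map (π x.left).hom), hu, ← G.map_comp_assoc]
              refine indep y.left y.hom _ _ (a x.left x.hom) ?_
              rw [ha, Category.assoc]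
              exact congrArg (_ ≫ ·) (CostructuredArrow.w g').symm } }
    refine ⟨(hG Q).some.desc s, hG.hom_ext fun K k => ?_⟩
    haveI := epi_map_presentation G hG (π K) (hπ K)
    have hfac : G.map (k ≫ g) ≫ (hG Q).some.desc s = u K (k ≫ g) :=
      (hG Q).some.fac s (CostructuredArrow.mk (Y := K) (k ≫ g))
    rw [← G.map_comp_assoc, hfac, ← cancel_epi (G.map (π K).hom), ← G.map_comp_assoc]
    exact indep K (k ≫ g) _ _ _ (Category.assoc _ _ _)
  exact ⟨CokernelCofork.IsColimit.ofπ' (G.map g) w fun {T} h hh =>
    ⟨(hex' h hh).choose, (hex' h hh).choose_spec⟩⟩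

theorem preservesFiniteColimits_of_isExt : PreservesFiniteColimits G := by
  haveI : ∀ {M N : ModuleCat.{u} A} (f : M ⟶ N), PreservesColimit (parallelPair f 0) G := fun {M N} f => by
    let g : N ⟶ ModuleCat.of A (N ⧸ LinearMap.range f.hom) := ModuleCat.ofHom (LinearMap.range f.hom).mkQ
    have w : f ≫ g = 0 := ModuleCat.hom_ext (LinearMap.range_mkQ_comp _)
    refine preservesColimit_of_preserves_colimit_cocone
      (ModuleCat.cokernelIsColimit f) ?_
    have h := isColimit_map_ext G hG f (ModuleCat.ofHom (LinearMap.range f.hom).mkQ)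
      (Submodule.mkQ_surjective _) (LinearMap.exact_map_mkQ_range _) (by rw [← G.map_comp, w, G.map_zero]) |>.some
    exact (CokernelCofork.isColimitMapCoconeEquiv _ G).symm h
  exact G.preservesFiniteColimits_of_preservesCokernels

end Extension

end Groth.Agent.H17.FPMod
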